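import Cfsg.Agent.Lib.SmithTyrer.Cover
import Cfsg.Agent.Lib.Char.TICongruence

/-!
Comparing the products of two conjugate involutions in a group and in its central extension.
-/

set_option autoImplicit false
set_option linter.unusedSectionVars false
set_option linter.style.haveILetI false

namespace Cfsg.Agent.SmithTyrer

open Cfsg Cfsg.Agent.Char Cfsg.Agent.Blocks
open scoped ComplexConjugate

universe u

/-- The extremal case of the norm inequality. -/
theorem tight {q d r : ℕ} (hq : d * d * r = q) (hd : 0 < d) (hr : 0 < r) {c E : ℂ} {k : ℤ}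
    (hk : k ≠ 0) (hsum : (d : ℂ) * c + E = (q : ℂ) * k) {Wv Dv : ℝ} (hD : 0 ≤ Dv)
    (h1 : Complex.normSq c + Wv + Dv ≤ q) (h2 : Complex.normSq E ≤ ((r : ℝ) - 1) * ((d : ℝ) * d) * Wv)
    (hW : 0 ≤ Wv) : k * k = 1 ∧ c = (d : ℂ) * k ∧ Dv = 0 := by
  have hqR : (q : ℝ) = (d : ℝ) * d * r := by exact_mod_cast hq.symm
  obtain ⟨x, hx⟩ : ∃ x, x = (d : ℝ) * c.re - (d : ℝ) * d * k := ⟨_, rfl⟩
  obtain ⟨y, hy⟩ : ∃ y, y = (d : ℝ) * c.im := ⟨_, rfl⟩
  have hEre : E.re = ((r : ℝ) - 1) * ((d : ℝ) * d * k) - x := by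
    have := congrArg Complex.re hsum
    simp at this
    rw [hx, hqR] at *
    linarith
  have hEim : E.im = -y := by
    have := congrArg Complex.im hsum
    simp at this
    linarith
  rw [Complex.normSq_apply] at h1 h2
  rw [hEre, hEim] at h2
  have hdpos : (0 : ℝ) < d := Nat.cast_pos.2 hd
  have hr1 : (1 : ℝ) ≤ r := Nat.one_le_cast.2 hr
  have hk1 : (1 : ℝ) ≤ (k : ℝ) * k := by
    have : (1 : ℤ) ≤ k * k := Int.add_one_le_iff.2 (mul_self_pos.2 hk)
    exact_mod_cast this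
  have h3 : ((r : ℝ) - 1) * ((d : ℝ) * d) * (c.re * c.re + c.im * c.im) +
      ((((r : ℝ) - 1) * ((d : ℝ) * d * k) - x) * (((r : ℝ) - 1) * ((d : ℝ) * d * k) - x) + -y * -y) ≤
      ((r : ℝ) - 1) * ((d : ℝ) * d) * ((d : ℝ) * d * r - Dv) := by
    have h4 : c.re * c.re + c.im * c.im + Wv ≤ (d : ℝ) * d * r - Dv := by rw [← hqR]; linarith
    nlinarith [mul_le_mul_of_nonneg_left h4
      (mul_nonneg (sub_nonneg.2 hr1) (mul_nonneg hdpos.le hdpos.le))]
  have h5 : (r : ℝ) * (x * x + y * y) + r * ((r : ℝ) - 1) * ((d : ℝ) * d * ((d : ℝ) * d)) * ((k : ℝ) * k - 1)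
      + ((r : ℝ) - 1) * ((d : ℝ) * d) * Dv ≤ 0 := by
    rw [hx, hy] at *
    linarith [show ((r : ℝ) - 1) * ((d : ℝ) * d) * (c.re * c.re + c.im * c.im) +
      ((((r : ℝ) - 1) * ((d : ℝ) * d * k) - ((d : ℝ) * c.re - (d : ℝ) * d * k)) *
        (((r : ℝ) - 1) * ((d : ℝ) * d * k) - ((d : ℝ) * c.re - (d : ℝ) * d * k)) +
          -((d : ℝ) * c.im) * -((d : ℝ) * c.im)) -
      ((r : ℝ) - 1) * ((d : ℝ) * d) * ((d : ℝ) * d * r - Dv) =
      (r : ℝ) * (((d : ℝ) * c.re - (d : ℝ) * d * k) * ((d : ℝ) * c.re - (d : ℝ) * d * k) +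
        (d : ℝ) * c.im * ((d : ℝ) * c.im)) +
      r * ((r : ℝ) - 1) * ((d : ℝ) * d * ((d : ℝ) * d)) * ((k : ℝ) * k - 1) +
      ((r : ℝ) - 1) * ((d : ℝ) * d) * Dv by ring]
  have hrpos : (0 : ℝ) < r := by linarith
  have ha : (0 : ℝ) ≤ r * ((r : ℝ) - 1) * ((d : ℝ) * d * ((d : ℝ) * d)) * ((k : ℝ) * k - 1) :=
    mul_nonneg (mul_nonneg (mul_nonneg hrpos.le (sub_nonneg.2 hr1)) (by positivity)) (sub_nonneg.2 hk1)
  have hb : (0 : ℝ) ≤ ((r : ℝ) - 1) * ((d : ℝ) * d) * Dv :=
    mul_nonneg (mul_nonneg (sub_nonneg.2 hr1) (by positivity)) hD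
  have hxy : x * x + y * y = 0 := le_antisymm
    (nonpos_of_mul_nonpos_right (by linarith) hrpos)
    (add_nonneg (mul_self_nonneg x) (mul_self_nonneg y))
  have hx0 : x = 0 := mul_self_eq_zero.1 (by linarith [mul_self_nonneg x, mul_self_nonneg y])
  have hy0 : y = 0 := mul_self_eq_zero.1 (by linarith [mul_self_nonneg x, mul_self_nonneg y])
  have hre : c.re = (d : ℝ) * k := mul_left_cancel₀ hdpos.ne' (by linarith)
  have him : c.im = 0 := (mul_eq_zero.1 (hy.symm.trans hy0)).resolve_left hdpos.ne'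
  have h6 : ((r : ℝ) - 1) * ((d : ℝ) * d * k * k) * ((r : ℝ) - 1) ≤ ((r : ℝ) - 1) * Wv := by
    rw [hx0, hy0] at h2
    nlinarith [mul_pos hdpos hdpos]
  have h7 : ((r : ℝ) - 1) * ((d : ℝ) * d * k * k) ≤ Wv := by
    rcases eq_or_lt_of_le hr1 with e | e
    · rw [← e]; simpa using hW
    · exact le_of_mul_le_mul_left (by linarith) (sub_pos.2 e)
  rw [hre, him, hqR] at h1
  have h8 : (r : ℝ) * ((d : ℝ) * d) * ((k : ℝ) * k - 1) + Dv ≤ 0 := by linarith
  have h9 : (0 : ℝ) ≤ (r : ℝ) * ((d : ℝ) * d) * ((k : ℝ) * k - 1) :=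
    mul_nonneg (by positivity) (sub_nonneg.2 hk1)
  have hkk : (k : ℝ) * k = 1 := by
    have h0 : (r : ℝ) * ((d : ℝ) * d) * ((k : ℝ) * k - 1) = 0 := by linarith
    rcases mul_eq_zero.1 h0 with h0 | h0
    · exact absurd h0 (by positivity)
    · linarith
  refine ⟨by exact_mod_cast hkk, Complex.ext ?_ ?_, by linarith⟩
  · simpa using hre
  · simpa using him

variable {G H : Type u} [Group G] [Fintype G] [Group H] [Fintype H] {p : ℕ} [hp : Fact p.Prime]
  {P : Sylow p G} {n : G} {π : H →* G}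

theorem classInner_comp (hs : Function.Surjective π) (f g : G → ℂ) :
    classInner (fun x => f (π x)) (fun x => g (π x)) = classInner f g := by
  classical
  unfold Cfsg.classInner
  have hcard : Nat.card H = Nat.card G * Nat.card π.ker := by
    rw [← π.ker.index_mul_card, Subgroup.index_ker, MonoidHom.range_eq_top.2 hs, Subgroup.card_top]
  have e : ∑ x : H, f (π x) * conj (g (π x)) = (Nat.card π.ker : ℂ) * ∑ y : G, f y * conj (g y) := by
    rw [← Finset.sum_fiberwise_of_maps_to (t := Finset.univ) (g := fun x => π x)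
      (fun _ _ => Finset.mem_univ _), Finset.mul_sum]
    refine Finset.sum_congr rfl fun y _ => ?_
    rw [Finset.sum_congr rfl (g := fun _ => f y * conj (g y)) fun x hx => by
      rw [(Finset.mem_filter.1 hx).2], Finset.sum_const, nsmul_eq_mul]
    congr 2
    obtain ⟨x₀, rfl⟩ := hs y
    rw [← Nat.card_eq_finsetCard]
    exact Nat.card_congr
      { toFun := fun b => ⟨x₀⁻¹ * b.1, by
          rw [MonoidHom.mem_ker, map_mul, (Finset.mem_filter.1 b.2).2, map_inv, inv_mul_cancel]⟩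
        invFun := fun k => ⟨x₀ * k.1, Finset.mem_filter.2 ⟨Finset.mem_univ _, by
          rw [map_mul, MonoidHom.mem_ker.1 k.2, mul_one]⟩⟩
        left_inv := fun b => Subtype.ext (mul_inv_cancel_left _ _)
        right_inv := fun k => Subtype.ext (inv_mul_cancel_left _ _) }
  rw [e, hcard]
  have : (Nat.card π.ker : ℂ) ≠ 0 := Nat.cast_ne_zero.2 Nat.card_pos.ne'
  push_cast
  field_simp

set_option maxHeartbeats 1000000 in
open scoped Classical in
/-- The sign character has degree one. -/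
theorem sign_degree (hc : Cover p π) (h : Inverted P n)
    (hnab : ∃ a b : H, π a ∈ (P : Subgroup G) ∧ π b ∈ (P : Subgroup G) ∧ a * b ≠ b * a)
    {χs : IrrCharacter G} {σ : ℤ} (hσ : σ * σ = 1) (hne : χs ≠ principal G)
    (hsing : ∀ g : G, pp p g ≠ 1 → (χs : G → ℂ) g = (σ : ℂ))
    {t : G} (ht : orderOf t = 2) (htne : (χs : G → ℂ) t ≠ (χs : G → ℂ) 1) :
    (σ : ℂ) * (χs : G → ℂ) 1 = 1 := by
  obtain ⟨ω, hω⟩ := hc.exists_omega
  obtain ⟨L, d, r, hLg, hdodd, hd1, hr, hdr, hLreg, hLval, hLW⟩ := hc.exists_ramified ω h hω hnab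
  set q := Nat.card (P : Subgroup G) with hqdef
  have hqC : (q : ℂ) ≠ 0 := Nat.cast_ne_zero.2 Nat.card_pos.ne'
  have hσC : (σ : ℂ) * σ = 1 := by exact_mod_cast hσ
  -- the two functions below
  let Y : G → ℂ := fun g => (σ : ℂ) * (χs : G → ℂ) g
  let Θ : G → ℂ := fun g => 1 - Y g
  let R : G → ℂ := fun g => 1 + Y g
  have hYsing : ∀ g : G, pp p g ≠ 1 → Y g = 1 := fun g hg => by
    show (σ : ℂ) * (χs : G → ℂ) g = 1
    rw [hsing g hg, hσC]
  have hYg : IsGeneralizedCharacter G Y :=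
    IsGeneralizedCharacter.int_smul
      (IsGeneralizedCharacter.of_isCharacter (IsIrrCharacter.isCharacter χs.2)) σ
  have honeg : IsGeneralizedCharacter G (principal G : G → ℂ) :=
    IsGeneralizedCharacter.of_isCharacter (IsIrrCharacter.isCharacter (principal G).2)
  have hΘg : IsGeneralizedCharacter G Θ := IsGeneralizedCharacter.sub honeg hYg
  have hΘvan : ∀ g : G, pp p g ≠ 1 → Θ g = 0 := fun g hg => by
    show 1 - Y g = 0
    rw [hYsing g hg, sub_self]
  have hYY : classInner Y Y = 1 := by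
    show classInner ((σ : ℂ) • (χs : G → ℂ)) ((σ : ℂ) • (χs : G → ℂ)) = 1
    rw [classInner_smul_left, classInner_smul_right, classInner_self_irr χs.2, map_intCast,
      mul_one, hσC]
  have h1Y : classInner (principal G : G → ℂ) Y = 0 := by
    show classInner (principal G : G → ℂ) ((σ : ℂ) • (χs : G → ℂ)) = 0
    rw [classInner_smul_right, classInner_irr_of_ne (principal G).2 χs.2
      fun e => hne (Subtype.ext e.symm), mul_zero]
  have hY1 : classInner Y (principal G : G → ℂ) = 0 := by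
    rw [← classInner_conj_symm, h1Y, map_zero]
  have h11 : classInner (principal G : G → ℂ) (principal G : G → ℂ) = 1 :=
    classInner_self_irr (principal G).2
  have hΘΘ : classInner Θ Θ = 2 := by
    show classInner ((principal G : G → ℂ) - Y) ((principal G : G → ℂ) - Y) = 2
    rw [classInner_sub_left, classInner_sub_right, classInner_sub_right, h11, h1Y, hY1, hYY]
    norm_num
  have hRR : classInner R R = 2 := by
    show classInner ((principal G : G → ℂ) + Y) ((principal G : G → ℂ) + Y) = 2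
    rw [classInner_add_left, classInner_add_right, classInner_add_right, h11, h1Y, hY1, hYY]
    norm_num
  have hΘR : classInner Θ R = 0 := by
    show classInner ((principal G : G → ℂ) - Y) ((principal G : G → ℂ) + Y) = 0
    rw [classInner_sub_left, classInner_add_right, classInner_add_right, h11, h1Y, hY1, hYY]
    norm_num
  -- regular elements upstairs
  set Reg := Finset.univ.filter fun g : H => pp p (π g) = 1 with hReg
  let S : (H → ℂ) → ℂ := fun f => (Nat.card H : ℂ)⁻¹ * ∑ g ∈ Reg, f g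
  have hN0 : (Nat.card H : ℂ) ≠ 0 := Nat.cast_ne_zero.2 Nat.card_pos.ne'
  have hSvan : ∀ f : H → ℂ, (∀ g, pp p (π g) ≠ 1 → f g = 0) →
      (Nat.card H : ℂ)⁻¹ * ∑ g : H, f g = S f := by
    intro f hf
    show _ = (Nat.card H : ℂ)⁻¹ * _
    rw [Finset.sum_subset (Finset.subset_univ Reg) fun g _ hg =>
      hf g fun e => hg (Finset.mem_filter.2 ⟨Finset.mem_univ _, e⟩)]
  let Θ' : H → ℂ := fun g => Θ (π g)
  let R' : H → ℂ := fun g => R (π g)
  have hΘΘ' : S (fun g => Θ' g * conj (Θ' g)) = 2 := by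
    rw [← hSvan _ fun g hg => by
      show Θ (π g) * _ = 0
      rw [hΘvan _ hg, zero_mul]]
    exact (classInner_comp hc.surj Θ Θ).trans hΘΘ
  have hΘR' : S (fun g => Θ' g * conj (R' g)) = 0 := by
    rw [← hSvan _ fun g hg => by
      show Θ (π g) * _ = 0
      rw [hΘvan _ hg, zero_mul]]
    exact (classInner_comp hc.surj Θ R).trans hΘR
  have hRΘ' : S (fun g => R' g * conj (Θ' g)) = 0 := by
    rw [← map_zero (starRingEnd ℂ), ← hΘR']
    show _ = conj ((Nat.card H : ℂ)⁻¹ * _)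
    simp [S, map_sum, mul_comm]
  have hRR' : S (fun g => R' g * conj (R' g)) = 2 / (q : ℂ) := by
    have e1 : classInner R' R' = 2 := (classInner_comp hc.surj R R).trans hRR
    unfold Cfsg.classInner at e1
    rw [← Finset.sum_filter_add_sum_filter_not Finset.univ (fun g : H => pp p (π g) = 1),
      Finset.sum_congr rfl (s₁ := Finset.univ.filter fun g : H => ¬ pp p (π g) = 1)
        (g := fun _ => (4 : ℂ)) fun g hg => by
        show R (π g) * conj (R (π g)) = 4
        rw [show R (π g) = 1 + Y (π g) from rfl, hYsing _ (Finset.mem_filter.1 hg).2]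
        rw [map_add, map_one]; norm_num,
      Finset.sum_const, nsmul_eq_mul] at e1
    have e2 : ((Finset.univ.filter fun g : H => pp p (π g) = 1).card : ℂ) =
        (Nat.card H : ℂ) * ((q : ℂ) + 1) / (2 * (q : ℂ)) := by
      have e3 := classInner_comp hc.surj (fun g : G => if pp p g = 1 then (1 : ℂ) else 0) (fun _ => 1)
      unfold Cfsg.classInner at e3
      simp only [map_one, mul_one, Finset.sum_boole] at e3
      have e4 := card_regular h
      rw [e4] at e3
      have hG0 : (Nat.card G : ℂ) ≠ 0 := Nat.cast_ne_zero.2 Nat.card_pos.ne'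
      field_simp at e3 ⊢
      linear_combination e3
    have e5 := Finset.card_filter_add_card_filter_not (s := (Finset.univ : Finset H))
      (fun g => pp p (π g) = 1)
    rw [Finset.card_univ, ← Nat.card_eq_fintype_card] at e5
    have e6 : ((Finset.univ.filter fun g : H => ¬ pp p (π g) = 1).card : ℂ) =
        (Nat.card H : ℂ) - (Nat.card H : ℂ) * ((q : ℂ) + 1) / (2 * (q : ℂ)) := by
      rw [← e2, eq_sub_iff_add_eq, add_comm]
      exact_mod_cast e5
    rw [e6] at e1
    show (Nat.card H : ℂ)⁻¹ * ∑ g ∈ Reg, R' g * conj (R' g) = _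
    field_simp at e1 ⊢
    rw [← hReg] at e1
    linear_combination (1 / 2 : ℂ) * e1
  -- the twist
  let K : H → ℂ := fun g => kfun ω (pp p g)
  have hK : ∀ g ∈ Reg, K g * conj (K g) = 1 := fun g hg =>
    hc.kfun_mul_conj ω ((hc.pp_mem_iff g).2 (Finset.mem_filter.1 hg).2)
  let F : H → ℂ := fun g => K g * Θ (π g)
  have hFg : IsGeneralizedCharacter H F := hc.isGeneralized_twist ω hΘg hΘvan
  obtain ⟨m, hm, hmcoef⟩ := IsGeneralizedCharacter.exists_coeff hFg
  have hFF : classInner F F = 2 := by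
    show (Nat.card H : ℂ)⁻¹ * _ = 2
    rw [hSvan _ fun g hg => by
      show K g * Θ (π g) * _ = 0
      rw [hΘvan _ hg, mul_zero, zero_mul], ← hΘΘ']
    show (Nat.card H : ℂ)⁻¹ * _ = (Nat.card H : ℂ)⁻¹ * _
    congr 1
    refine Finset.sum_congr rfl fun g hg => ?_
    show K g * Θ (π g) * conj (K g * Θ (π g)) = Θ (π g) * conj (Θ (π g))
    rw [map_mul, mul_mul_mul_comm, hK g hg, one_mul]
  have hm2 : ∑ χ, m χ * m χ = 2 := by
    rw [IsGeneralizedCharacter.norm_eq hm] at hFF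
    exact_mod_cast hFF
  obtain ⟨hcard2, hm1⟩ := support_card hm2
  set supp := Finset.univ.filter fun χ => m χ ≠ 0 with hsupp
  -- each constituent
  have key : ∀ χ : IrrCharacter H, m χ ≠ 0 → ∃ k : ℤ, k * k = 1 ∧ ∀ g ∈ Reg,
      (m χ : ℂ) * (χ : H → ℂ) g =
        K g * (1 / 2 * Θ' g + (m χ * k : ℤ) * (d : ℂ) / 2 * R' g) := by
    intro χ hχ
    let hfn : H → ℂ := fun g => (χ : H → ℂ) g * conj (K g)
    obtain ⟨c, hcdef⟩ : ∃ c, c = (q : ℂ) * S (fun g => hfn g * conj (R' g)) := ⟨_, rfl⟩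
    set a : ℂ := (m χ : ℂ) with hadef
    have hmm : a * a = 1 := by rw [hadef]; exact_mod_cast hm1 χ hχ
    have hn : S (fun g => hfn g * conj (Θ' g)) = a := by
      have e := hmcoef χ
      rw [← classInner_conj_symm] at e
      have e' : classInner (χ : H → ℂ) F = a := by
        have := congrArg conj e
        rwa [Complex.conj_conj, map_intCast] at this
      rw [← e']
      show _ = (Nat.card H : ℂ)⁻¹ * _
      rw [hSvan _ fun g hg => by
        show _ * conj (K g * Θ (π g)) = 0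
        rw [hΘvan _ hg, mul_zero, map_zero, mul_zero]]
      show (Nat.card H : ℂ)⁻¹ * _ = (Nat.card H : ℂ)⁻¹ * _
      congr 1
      refine Finset.sum_congr rfl fun g _ => ?_
      show (χ : H → ℂ) g * conj (K g) * conj (Θ (π g)) = (χ : H → ℂ) g * conj (K g * Θ (π g))
      rw [map_mul, mul_assoc]
    have hcS : S (fun g => hfn g * conj (R' g)) = c / (q : ℂ) := by rw [hcdef]; field_simp
    have hSh : S hfn = (a + c / (q : ℂ)) / 2 := by
      rw [← hn, ← hcS]
      show (Nat.card H : ℂ)⁻¹ * _ = ((Nat.card H : ℂ)⁻¹ * _ + (Nat.card H : ℂ)⁻¹ * _) / 2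
      rw [← mul_add, ← Finset.sum_add_distrib, mul_div_assoc, Finset.sum_div]
      congr 1
      refine Finset.sum_congr rfl fun g _ => ?_
      simp only [Θ', R', Θ, R, map_add, map_sub, map_one]
      ring
    set W := Finset.univ.filter fun g : H => pp p (π g) ≠ 1 ∧ L g ≠ 0 with hWdef
    obtain ⟨E, hEdef⟩ : ∃ E, E = 2 * (q : ℂ) * ((Nat.card H : ℂ)⁻¹ *
      ∑ g ∈ W, (χ : H → ℂ) g * conj (L g)) := ⟨_, rfl⟩
    obtain ⟨z, hz⟩ := IsGeneralizedCharacter.exists_classInner_int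
      (IsGeneralizedCharacter.of_isCharacter (IsIrrCharacter.isCharacter χ.2)) hLg
    have hzeq : (z : ℂ) = (d : ℂ) * S hfn + E / (2 * (q : ℂ)) := by
      rw [← hz, hEdef]
      unfold Cfsg.classInner
      have hW' : ∑ g ∈ Finset.univ.filter (fun g : H => ¬ pp p (π g) = 1), (χ : H → ℂ) g * conj (L g) =
          ∑ g ∈ W, (χ : H → ℂ) g * conj (L g) := by
        refine (Finset.sum_subset (fun g hg => ?_) fun g hg hg' => ?_).symm
        · simp only [hWdef, Finset.mem_filter, Finset.mem_univ, true_and] at hg ⊢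
          exact hg.1
        · simp only [hWdef, Finset.mem_filter, Finset.mem_univ, true_and, not_and, not_not] at hg hg'
          rw [hg' hg, map_zero, mul_zero]
      rw [← Finset.sum_filter_add_sum_filter_not Finset.univ (fun g : H => pp p (π g) = 1), hW',
        Finset.sum_congr rfl (g := fun g => (d : ℂ) * hfn g) fun g hg => by
          rw [hLreg g (Finset.mem_filter.1 hg).2, map_mul, Complex.conj_natCast]
          show _ = (d : ℂ) * ((χ : H → ℂ) g * conj (K g))
          ring,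
        ← Finset.mul_sum]
      show _ = (d : ℂ) * ((Nat.card H : ℂ)⁻¹ * _) + _
      rw [← hReg]
      field_simp
    obtain ⟨k, hk⟩ : ∃ k, k = 2 * z - (d : ℤ) * m χ := ⟨_, rfl⟩
    have hk0 : k ≠ 0 := by
      intro e
      have h1 : Odd ((d : ℤ) * m χ) := (Int.odd_coe_nat d).2 hdodd |>.mul (by
        rcases Int.eq_one_or_neg_one_of_mul_eq_one (hm1 χ hχ) with e | e <;> rw [e] <;> decide)
      rw [e] at hk
      obtain ⟨s, hs⟩ := h1
      omega
    have hsum : (d : ℂ) * c + E = (q : ℂ) * k := by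
      rw [hk]
      push_cast
      rw [hzeq, hSh]
      field_simp
      ring
    let e : H → ℂ := fun g => hfn g - a / 2 * Θ' g - c / 2 * R' g
    have hexp : S (fun g => e g * conj (e g)) =
        S (fun g => hfn g * conj (hfn g)) - (1 / 2 : ℂ) - c * conj c / (2 * (q : ℂ)) := by
      have hconj : ∀ f g : H → ℂ, S (fun x => f x * conj (g x)) = conj (S fun x => g x * conj (f x)) := by
        intro f g
        simp [S, map_sum, mul_comm]
      have h1 := hconj Θ' hfn
      rw [hn, hadef, map_intCast, ← hadef] at h1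
      have h2 := hconj R' hfn
      rw [hcS, map_div₀, Complex.conj_natCast] at h2
      have hca : conj a = a := by rw [hadef, map_intCast]
      have : S (fun g => e g * conj (e g)) =
          S (fun g => hfn g * conj (hfn g)) - a / 2 * S (fun g => hfn g * conj (Θ' g)) -
            conj c / 2 * S (fun g => hfn g * conj (R' g)) -
            a / 2 * S (fun g => Θ' g * conj (hfn g)) + a / 2 * (a / 2) * S (fun g => Θ' g * conj (Θ' g)) +
            a / 2 * (conj c / 2) * S (fun g => Θ' g * conj (R' g)) -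
            c / 2 * S (fun g => R' g * conj (hfn g)) + c / 2 * (a / 2) * S (fun g => R' g * conj (Θ' g)) +
            c / 2 * (conj c / 2) * S (fun g => R' g * conj (R' g)) := by
        simp only [S, Finset.mul_sum, ← Finset.sum_sub_distrib, ← Finset.sum_add_distrib]
        refine Finset.sum_congr rfl fun g _ => ?_
        simp only [e, map_sub, map_mul, map_div₀, hca, Complex.conj_ofNat]
        ring
      rw [this, hn, hcS, h1, h2, hΘΘ', hΘR', hRΘ', hRR']
      field_simp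
      linear_combination (-2 * (q : ℂ)) * hmm
    -- real parts
    obtain ⟨N, hN⟩ : ∃ N, N = (Nat.card H : ℝ) := ⟨_, rfl⟩
    have hNpos : 0 < N := hN ▸ Nat.cast_pos.2 Nat.card_pos
    obtain ⟨Dv, hDv⟩ : ∃ D, D = 2 * (q : ℝ) * (N⁻¹ * ∑ g ∈ Reg, Complex.normSq (e g)) := ⟨_, rfl⟩
    obtain ⟨Wv, hWv⟩ : ∃ W', W' = 2 * (q : ℝ) * (N⁻¹ * ∑ g ∈ W, Complex.normSq ((χ : H → ℂ) g)) :=
      ⟨_, rfl⟩
    have hD0 : 0 ≤ Dv := hDv ▸ mul_nonneg (by positivity)
      (mul_nonneg (inv_nonneg.2 hNpos.le) (Finset.sum_nonneg fun _ _ => Complex.normSq_nonneg _))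
    have hW0 : 0 ≤ Wv := hWv ▸ mul_nonneg (by positivity)
      (mul_nonneg (inv_nonneg.2 hNpos.le) (Finset.sum_nonneg fun _ _ => Complex.normSq_nonneg _))
    have hD : N⁻¹ * ∑ g ∈ Reg, Complex.normSq (e g) =
        N⁻¹ * ∑ g ∈ Reg, Complex.normSq ((χ : H → ℂ) g) - 1 / 2 - Complex.normSq c / (2 * (q : ℝ)) := by
      have h1 : ∀ g ∈ Reg, hfn g * conj (hfn g) = ((Complex.normSq ((χ : H → ℂ) g) : ℝ) : ℂ) := by
        intro g hg
        rw [← Complex.mul_conj]
        show (χ : H → ℂ) g * conj (K g) * conj ((χ : H → ℂ) g * conj (K g)) = _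
        rw [map_mul, Complex.conj_conj]
        linear_combination ((χ : H → ℂ) g * conj ((χ : H → ℂ) g)) * hK g hg
      simp only [S] at hexp
      rw [Finset.sum_congr rfl h1, Complex.mul_conj c,
        Finset.sum_congr rfl fun g _ => Complex.mul_conj (e g)] at hexp
      rw [hN]
      apply Complex.ofReal_injective
      push_cast
      linear_combination hexp
    have hnorm : N⁻¹ * ∑ g ∈ Reg, Complex.normSq ((χ : H → ℂ) g) +
        N⁻¹ * ∑ g ∈ W, Complex.normSq ((χ : H → ℂ) g) ≤ 1 := by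
      have e1 := classInner_self_eq (χ : H → ℂ)
      rw [classInner_self_irr χ.2, ← hN] at e1
      have e2 : (1 : ℝ) = N⁻¹ * ∑ g : H, ‖(χ : H → ℂ) g‖ ^ 2 := by exact_mod_cast e1
      rw [e2, ← mul_add]
      refine mul_le_mul_of_nonneg_left ?_ (inv_nonneg.2 hNpos.le)
      simp only [← Complex.normSq_eq_norm_sq]
      rw [← Finset.sum_union (Finset.disjoint_left.2 fun g h1 h2 =>
        (Finset.mem_filter.1 h2).2.1 (Finset.mem_filter.1 h1).2)]
      exact Finset.sum_le_sum_of_subset_of_nonneg (Finset.subset_univ _)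
        fun _ _ _ => Complex.normSq_nonneg _
    have hE : Complex.normSq E ≤ ((r : ℝ) - 1) * ((d : ℝ) * d) * Wv := by
      have h1 : Complex.normSq (∑ g ∈ W, (χ : H → ℂ) g * conj (L g)) ≤
          (∑ g ∈ W, Complex.normSq ((χ : H → ℂ) g)) * ∑ g ∈ W, Complex.normSq (L g) := by
        simp only [Complex.normSq_eq_norm_sq]
        refine le_trans (pow_le_pow_left₀ (norm_nonneg _) (norm_sum_le _ _) 2) ?_
        rw [Finset.sum_congr rfl (g := fun g => ‖(χ : H → ℂ) g‖ * ‖L g‖) fun g _ => by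
          rw [norm_mul, Complex.norm_conj]]
        exact Finset.sum_mul_sq_le_sq_mul_sq _ _ _
      have h2 : ∀ g ∈ W, Complex.normSq (L g) = (d : ℝ) * d := by
        intro g hg
        have h3 := (hLval g).resolve_left (Finset.mem_filter.1 hg).2.2
        rw [Complex.mul_conj] at h3
        exact_mod_cast h3
      rw [Finset.sum_congr rfl h2, Finset.sum_const, nsmul_eq_mul] at h1
      have h4 : 2 * (q : ℝ) * (W.card : ℝ) = ((r : ℝ) - 1) * N := by
        have : 2 * (q : ℝ) * (W.card : ℝ) + (Nat.card H : ℝ) = (r : ℝ) * (Nat.card H : ℝ) := by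
          exact_mod_cast hLW
        rw [hN]; linarith
      rw [hEdef, hWv]
      simp only [map_mul, map_inv₀, Complex.normSq_natCast, Complex.normSq_ofNat, ← hN]
      refine le_trans (mul_le_mul_of_nonneg_left (mul_le_mul_of_nonneg_left h1 (by positivity))
        (by positivity)) (le_of_eq ?_)
      field_simp
      linear_combination ((q : ℝ) *
        ∑ g ∈ W, Complex.normSq ((χ : H → ℂ) g)) * h4
    have hineq : Complex.normSq c + Wv + Dv ≤ (q : ℝ) := by
      rw [hWv, hDv, hD]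
      have hqpos : (0 : ℝ) < q := Nat.cast_pos.2 Nat.card_pos
      have h5 := mul_le_mul_of_nonneg_left hnorm (by positivity : (0 : ℝ) ≤ 2 * q)
      have h6 : 2 * (q : ℝ) * (Complex.normSq c / (2 * (q : ℝ))) = Complex.normSq c := by field_simp
      linarith
    obtain ⟨hkk, hck, hDz⟩ := tight hdr (by omega) hr hk0 hsum hD0 hineq hE hW0
    refine ⟨k, hkk, fun g hg => ?_⟩
    have he0 : e g = 0 := by
      rw [hDv] at hDz
      have hqpos : (0 : ℝ) < q := Nat.cast_pos.2 Nat.card_pos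
      have h1 : ∑ g ∈ Reg, Complex.normSq (e g) = 0 := by
        rcases mul_eq_zero.1 hDz with h | h
        · exact absurd h (by positivity)
        · exact (mul_eq_zero.1 h).resolve_left (inv_ne_zero hNpos.ne')
      exact Complex.normSq_eq_zero.1
        ((Finset.sum_eq_zero_iff_of_nonneg fun _ _ => Complex.normSq_nonneg _).1 h1 g hg)
    simp only [e, hfn, hck] at he0
    push_cast
    rw [← hadef]
    linear_combination (a * K g) * he0 - a * (χ : H → ℂ) g * hK g hg + (1 / 2 * K g * Θ' g) * hmm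
  choose! kf hkf hval using key
  -- an involution upstairs
  obtain ⟨t₀, ht₀⟩ := hc.surj t
  have ht2 : t ^ 2 = 1 := ht ▸ pow_orderOf_eq_one t
  have hT : ∃ T : H, π T = t ∧ T * T = 1 := by
    refine ⟨t₀ ^ p, ?_, ?_⟩
    · obtain ⟨l, hl⟩ := hp.out.odd_of_ne_two h.odd
      rw [map_pow, ht₀, hl, pow_succ, pow_mul, ht2, one_pow, one_mul]
    · have hz : t₀ ^ 2 ∈ π.ker := by rw [MonoidHom.mem_ker, map_pow, ht₀, ht2]
      rw [← pow_add, ← two_mul, pow_mul, hc.pow_ker hz]
  obtain ⟨T, hTπ, hTT⟩ := hT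
  have hTpp : pp p T = 1 := by
    rw [pp_eq_one_iff]
    intro hd
    exact h.odd ((Nat.prime_dvd_prime_iff_eq hp.out Nat.prime_two).1
      (hd.trans (orderOf_dvd_of_pow_eq_one (by rw [pow_two, hTT]))))
  have hone : pp p (1 : H) = 1 := by rw [pp_eq_one_iff, orderOf_one]; exact hp.out.not_dvd_one
  have h1R : (1 : H) ∈ Reg := Finset.mem_filter.2 ⟨Finset.mem_univ _, by
    rw [pp_map, hone, map_one]⟩
  have hTR : T ∈ Reg := Finset.mem_filter.2 ⟨Finset.mem_univ _, by rw [pp_map, hTpp, map_one]⟩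
  have hK1 : K 1 = 1 := by show kfun ω (pp p (1 : H)) = 1; rw [hone, hc.kfun_one]
  have hKT : K T = 1 := by show kfun ω (pp p T) = 1; rw [hTpp, hc.kfun_one]
  obtain ⟨χ₁, χ₂, h12, hset⟩ := Finset.card_eq_two.1 hcard2
  have hs1 : m χ₁ ≠ 0 := (Finset.mem_filter.1 (show χ₁ ∈ supp by rw [hset]; simp)).2
  have hs2 : m χ₂ ≠ 0 := (Finset.mem_filter.1 (show χ₂ ∈ supp by rw [hset]; simp)).2
  have hFsum : ∀ g, F g = (m χ₁ : ℂ) * (χ₁ : H → ℂ) g + (m χ₂ : ℂ) * (χ₂ : H → ℂ) g := by
    intro g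
    conv_lhs => rw [hm]
    rw [Finset.sum_apply, ← Finset.sum_subset (Finset.subset_univ supp) fun χ _ hχ => by
      rw [Pi.smul_apply, show m χ = 0 by simpa [hsupp] using hχ, Int.cast_zero, zero_smul],
      hset, Finset.sum_pair h12]
    simp
  set s₁ : ℤ := m χ₁ * kf χ₁
  set s₂ : ℤ := m χ₂ * kf χ₂
  have hRne : R' 1 ≠ 0 ∨ R' T ≠ 0 := by
    by_contra hcon
    push Not at hcon
    obtain ⟨e1, e2⟩ := hcon
    refine htne ?_
    simp only [R', R, Y, map_one, hTπ] at e1 e2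
    have hσ0 : (σ : ℂ) ≠ 0 := fun e => by rw [e, mul_zero] at hσC; exact zero_ne_one hσC
    exact mul_left_cancel₀ hσ0 (by linear_combination e2 - e1)
  have hs12 : (s₁ : ℂ) + s₂ = 0 := by
    have hd0 : (d : ℂ) ≠ 0 := Nat.cast_ne_zero.2 (by omega)
    rcases hRne with hR | hR
    · have e := hFsum 1
      rw [hval χ₁ hs1 1 h1R, hval χ₂ hs2 1 h1R] at e
      simp only [F, hK1, one_mul] at e
      have e' : (d : ℂ) * ((s₁ : ℂ) + s₂) * R' 1 = 0 := by
        simp only [Θ'] at e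
        linear_combination (-2 : ℂ) * e
      exact (mul_eq_zero.1 ((mul_eq_zero.1 e').resolve_right hR)).resolve_left hd0
    · have e := hFsum T
      rw [hval χ₁ hs1 T hTR, hval χ₂ hs2 T hTR] at e
      simp only [F, hKT, one_mul] at e
      have e' : (d : ℂ) * ((s₁ : ℂ) + s₂) * R' T = 0 := by
        simp only [Θ'] at e
        linear_combination (-2 : ℂ) * e
      exact (mul_eq_zero.1 ((mul_eq_zero.1 e').resolve_right hR)).resolve_left hd0
  -- the count
  have hcount : ∀ a ∈ classFinset T, ∀ b ∈ classFinset T, F (a * b) = Θ (π (a * b)) := by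
    intro a ha b hb
    show K (a * b) * Θ (π (a * b)) = _
    by_cases hreg : pp p (π (a * b)) = 1
    · have hsq : ∀ x ∈ classFinset T, x * x = 1 := by
        intro x hx
        obtain ⟨y, rfl⟩ := isConj_iff.1 (mem_classFinset.1 hx)
        calc y * T * y⁻¹ * (y * T * y⁻¹) = y * (T * T) * y⁻¹ := by group
          _ = 1 := by rw [hTT]; group
      have hz := (hc.pp_mem_iff (a * b)).2 hreg
      have e1 : a * (a * b) * a⁻¹ = (a * b)⁻¹ := by
        rw [mul_inv_rev, inv_eq_of_mul_eq_one_right (hsq a ha), inv_eq_of_mul_eq_one_right (hsq b hb),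
          ← mul_assoc a a b, hsq a ha, one_mul]
      have e2 := congrArg (pp p) e1
      rw [pp_conj, pp_inv, Subgroup.mem_center_iff.1 (hc.central hz) a, mul_inv_cancel_right] at e2
      have e3 : pp p (a * b) ^ 2 = 1 := by rw [pow_two]; exact eq_inv_iff_mul_eq_one.1 e2
      have e4 : pp p (a * b) = 1 := by
        have hco : Nat.Coprime 2 p := (Nat.coprime_primes Nat.prime_two hp.out).2 (Ne.symm h.odd)
        simpa [hco.gcd_eq_one] using pow_gcd_eq_one.2 ⟨e3, hc.pow_ker hz⟩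
      show kfun ω (pp p (a * b)) * _ = _
      rw [e4, hc.kfun_one, one_mul]
    · rw [hΘvan _ hreg, mul_zero]
  set I : ℂ := ((Subgroup.centralizer ({T} : Set H)).index : ℂ)
  have hI : I ≠ 0 := Nat.cast_ne_zero.2 Subgroup.index_ne_zero_of_finite
  have hcls : ∀ χ : IrrCharacter H, ∑ a ∈ classFinset T, ∑ b ∈ classFinset T, (χ : H → ℂ) (a * b) =
      I * (χ : H → ℂ) T * (I * (χ : H → ℂ) T) / (χ : H → ℂ) 1 := fun χ =>
    TICongr.sum_class_mul χ.2 T T
  have hlhs : ∑ a ∈ classFinset T, ∑ b ∈ classFinset T, F (a * b) =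
      (m χ₁ : ℂ) * (I * (χ₁ : H → ℂ) T * (I * (χ₁ : H → ℂ) T) / (χ₁ : H → ℂ) 1) +
      (m χ₂ : ℂ) * (I * (χ₂ : H → ℂ) T * (I * (χ₂ : H → ℂ) T) / (χ₂ : H → ℂ) 1) := by
    rw [← hcls, ← hcls, Finset.mul_sum, Finset.mul_sum, ← Finset.sum_add_distrib]
    refine Finset.sum_congr rfl fun a _ => ?_
    rw [Finset.mul_sum, Finset.mul_sum, ← Finset.sum_add_distrib]
    exact Finset.sum_congr rfl fun b _ => hFsum _
  have hrhs : ∑ a ∈ classFinset T, ∑ b ∈ classFinset T, Θ (π (a * b)) =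
      I * I - (σ : ℂ) * (I * (χs : G → ℂ) t * (I * (χs : G → ℂ) t) / (χs : G → ℂ) 1) := by
    have e := hcls ⟨_, IsIrrCharacter.comp χs.2 π hc.surj⟩
    simp only [map_one, hTπ] at e
    rw [← e, Finset.mul_sum]
    simp only [Θ, Y, Finset.sum_sub_distrib, Finset.sum_const, nsmul_eq_mul, mul_one, Finset.mul_sum]
    rw [card_classFinset]
  have hEq : ∑ a ∈ classFinset T, ∑ b ∈ classFinset T, F (a * b) =
      ∑ a ∈ classFinset T, ∑ b ∈ classFinset T, Θ (π (a * b)) :=
    Finset.sum_congr rfl fun a ha => Finset.sum_congr rfl fun b hb => hcount a ha b hb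
  rw [hlhs, hrhs] at hEq
  have sqdiv : ∀ (e : ℤ) (x y : ℂ), e * e = 1 →
      (e : ℂ) * (I * x * (I * x) / y) = I * I * (((e : ℂ) * x) ^ 2 / ((e : ℂ) * y)) := by
    intro e x y he
    rcases Int.eq_one_or_neg_one_of_mul_eq_one he with rfl | rfl <;> push_cast <;> ring
  rw [sqdiv _ _ _ (hm1 χ₁ hs1), sqdiv _ _ _ (hm1 χ₂ hs2), sqdiv _ _ _ hσ, ← mul_add,
    show I * I - I * I * (((σ : ℂ) * (χs : G → ℂ) t) ^ 2 / ((σ : ℂ) * (χs : G → ℂ) 1)) =
      I * I * (1 - ((σ : ℂ) * (χs : G → ℂ) t) ^ 2 / ((σ : ℂ) * (χs : G → ℂ) 1)) by ring] at hEq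
  have hEq' := mul_left_cancel₀ (mul_ne_zero hI hI) hEq
  have a1 := hval χ₁ hs1 1 h1R
  have a2 := hval χ₂ hs2 1 h1R
  rw [hval χ₁ hs1 T hTR, hval χ₂ hs2 T hTR, a1, a2] at hEq'
  have hd1' : (m χ₁ : ℂ) * (χ₁ : H → ℂ) 1 ≠ 0 := mul_ne_zero (Int.cast_ne_zero.2 hs1) (irr_one_ne_zero χ₁)
  have hd2' : (m χ₂ : ℂ) * (χ₂ : H → ℂ) 1 ≠ 0 := mul_ne_zero (Int.cast_ne_zero.2 hs2) (irr_one_ne_zero χ₂)
  rw [a1] at hd1'
  rw [a2] at hd2'
  simp only [hK1, hKT, one_mul, Θ', R', Θ, R, Y, map_one, hTπ] at hEq' hd1' hd2'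
  set v := (σ : ℂ) * (χs : G → ℂ) 1 with hv
  set u := (σ : ℂ) * (χs : G → ℂ) t with hu
  have hsq : (s₁ : ℂ) * s₁ = 1 := by
    have h1 := hm1 χ₁ hs1
    have h2 := hkf χ₁ hs1
    have : s₁ * s₁ = 1 := by
      show m χ₁ * kf χ₁ * (m χ₁ * kf χ₁) = 1
      rw [mul_mul_mul_comm, h1, h2, one_mul]
    exact_mod_cast this
  rw [show (s₂ : ℂ) = -(s₁ : ℂ) by linear_combination hs12] at hEq' hd2'
  have hv0 : v ≠ 0 := mul_ne_zero (fun e => by rw [e, mul_zero] at hσC; exact zero_ne_one hσC)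
    (irr_one_ne_zero χs)
  obtain ⟨D, hD⟩ : ∃ D, D = (s₁ : ℂ) * d := ⟨_, rfl⟩
  have hD2 : D * D = (d : ℂ) * d := by rw [hD]; linear_combination ((d : ℂ) * d) * hsq
  have hfinal : ((d : ℂ) * d - 1) * ((1 - v) * ((u - v) * (u - v))) = 0 := by
    rw [show (s₁ : ℂ) * (d : ℂ) = D from hD.symm] at hEq' hd1'
    rw [show -(s₁ : ℂ) * (d : ℂ) = -D by rw [hD]; ring] at hEq' hd2'
    rw [div_add_div _ _ hd1' hd2', one_sub_div hv0, div_eq_div_iff (mul_ne_zero hd1' hd2') hv0] at hEq'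
    linear_combination (-((1 - v) * ((u - v) * (u - v)))) * hD2 - 4 * hEq'
  rcases mul_eq_zero.1 hfinal with e | e
  · exfalso
    have h4 : ((d * d : ℕ) : ℂ) = ((1 : ℕ) : ℂ) := by push_cast; linear_combination e
    have := Nat.eq_one_of_mul_eq_one_right (Nat.cast_injective h4)
    omega
  rcases mul_eq_zero.1 e with e | e
  · linear_combination -e
  · exfalso
    refine htne ?_
    have hσ0 : (σ : ℂ) ≠ 0 := fun e => by rw [e, mul_zero] at hσC; exact zero_ne_one hσC
    exact mul_left_cancel₀ hσ0 (sub_eq_zero.1 (mul_self_eq_zero.1 e))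

end Cfsg.Agent.SmithTyrer
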