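import Cfsg.Agent.Lib.SmithTyrer.Ext
import Cfsg.Agent.Lib.SmithTyrer.Count
import Cfsg.Agent.Lib.Solvable.PSeries
import Cfsg.Agent.Lib.Techniques.PConstrained

/-!
An abelian non-cyclic Sylow `p`-subgroup with inertial index two.
-/

set_option autoImplicit false
set_option linter.unusedSectionVars false
set_option linter.style.haveILetI false

namespace Cfsg.Agent.SmithTyrer

open Cfsg Cfsg.Agent.Char
open scoped commutatorElement

universe u

/-- The kernel of a character. -/
theorem exists_char_kernel {G : Type u} [Group G] [Finite G] {χ : G → ℂ} (h : IsCharacter G χ) :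
    ∃ N : Subgroup G, N.Normal ∧ ∀ g, g ∈ N ↔ χ g = χ 1 := by
  obtain ⟨d, ρ, rfl⟩ := h
  refine ⟨ρ.asGroupHom.ker, inferInstance, fun g => ?_⟩
  rw [MonoidHom.mem_ker, ← Units.val_inj, Representation.asGroupHom_apply, Units.val_one]
  refine ⟨fun e => by simp [Representation.character, e], fun e => ?_⟩
  rcases Nat.eq_zero_or_pos d with hd | hd
  · subst hd
    exact LinearMap.ext fun x => Subsingleton.elim _ _
  have h1 : ρ.character 1 = (d : ℂ) := by rw [Representation.char_one]; simp
  obtain ⟨c, hc⟩ := (norm_char_eq_iff ρ g).1 (by rw [e, h1]; simp)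
  have h2 : c = 1 := by
    have := congrArg (LinearMap.trace ℂ (Fin d → ℂ)) hc
    rw [map_smul, LinearMap.trace_id, smul_eq_mul] at this
    rw [show LinearMap.trace ℂ (Fin d → ℂ) (ρ g) = ρ.character g from rfl, e, h1] at this
    refine mul_right_cancel₀ (Nat.cast_ne_zero.2 hd.ne') (show c * (d : ℂ) = 1 * d from ?_)
    rw [one_mul]
    conv_rhs => rw [this]
    simp
  rw [hc, h2, one_smul]
  rfl

variable {G : Type u} [Group G] [Fintype G] {p : ℕ} [hp : Fact p.Prime] {P : Sylow p G} {n : G}

theorem nine_le (h : Inverted P n) (hnc : ¬ IsCyclic (P : Subgroup G)) :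
    9 ≤ Nat.card (P : Subgroup G) := by
  obtain ⟨k, hk⟩ := IsPGroup.iff_card.1 P.isPGroup'
  have h3 : 3 ≤ p := by
    have h2 := hp.out.two_le
    have := h.odd
    omega
  rcases k with _ | _ | k
  · rw [pow_zero] at hk
    haveI : Subsingleton (P : Subgroup G) := (Nat.card_eq_one_iff_unique.1 hk).1
    exact absurd isCyclic_of_subsingleton hnc
  · rw [zero_add, pow_one] at hk
    exact absurd (isCyclic_of_prime_card hk) hnc
  · rw [hk]
    calc 9 ≤ p ^ 2 := by nlinarith
      _ ≤ p ^ (k + 1 + 1) := pow_le_pow_right₀ hp.out.one_le (by omega)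

/-- The reduced case. -/
theorem pLength_one (h : Inverted P n) (hnc : ¬ IsCyclic (P : Subgroup G))
    (hcore : pPrimeCore p G = ⊥) : PLengthLE p 1 G := by
  classical
  obtain ⟨χ, σ, hσ, hne, hsing⟩ := exists_sign h (nine_le h hnc)
  obtain ⟨N0, hN0, hmem⟩ := exists_char_kernel (IsIrrCharacter.isCharacter χ.2)
  have hσC : (σ : ℂ) * σ = 1 := by exact_mod_cast hσ
  obtain ⟨dd, hdd⟩ := IsCharacter.exists_degree (IsIrrCharacter.isCharacter χ.2)
  have hv : (σ : ℂ) * (χ : G → ℂ) 1 = 1 := by
    by_cases hall : ∀ t : G, orderOf t = 2 → t ∈ N0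
    · obtain ⟨x, hx, hx1, hxN⟩ : ∃ x ∈ (P : Subgroup G), x ≠ 1 ∧ x ∈ N0 := by
        by_cases hcop : (Nat.card N0).Coprime p
        · exfalso
          have hbot : N0 = ⊥ := le_bot_iff.1 (hcore ▸ PBasic.le_pPrimeCore hN0 hcop)
          have h2 : 2 ∣ Nat.card G := by
            have hpar : 2 ∣ orderOf n := by
              by_contra hodd
              obtain ⟨x, hx, hx1⟩ : ∃ x ∈ (P : Subgroup G), x ≠ 1 := by
                have h9 := nine_le h hnc
                by_contra hc; push Not at hc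
                rw [(Subgroup.eq_bot_iff_forall _).2 hc, Subgroup.card_bot] at h9
                omega
              have hn2 : ∀ j : ℕ, n ^ (2 * j) * x * (n ^ (2 * j))⁻¹ = x := by
                intro j
                induction j with
                | zero => simp
                | succ j ih =>
                  calc n ^ (2 * (j + 1)) * x * (n ^ (2 * (j + 1)))⁻¹
                      = n * (n * (n ^ (2 * j) * x * (n ^ (2 * j))⁻¹) * n⁻¹) * n⁻¹ := by
                        rw [show 2 * (j + 1) = 2 + 2 * j by ring, pow_add, pow_two]; group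
                    _ = x := by rw [ih, h.inv x hx, h.inv _ (inv_mem hx), inv_inv]
              obtain ⟨j, hj⟩ : ∃ j, orderOf n = 2 * j + 1 := ⟨orderOf n / 2, by omega⟩
              refine h.ne_inv hx hx1 ?_
              have e := hn2 (j + 1)
              rw [show 2 * (j + 1) = orderOf n + 1 by omega, pow_succ, pow_orderOf_eq_one, one_mul,
                h.inv x hx] at e
              exact e.symm
            exact hpar.trans (orderOf_dvd_natCard n)
          haveI : Fact (Nat.Prime 2) := ⟨Nat.prime_two⟩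
          obtain ⟨t, ht⟩ := exists_prime_orderOf_dvd_card' 2 h2
          have := hall t ht
          rw [hbot, Subgroup.mem_bot] at this
          rw [this, orderOf_one] at ht
          omega
        · rw [Nat.coprime_comm, hp.out.coprime_iff_not_dvd, not_not] at hcop
          obtain ⟨z, hz⟩ := exists_prime_orderOf_dvd_card' p hcop
          obtain ⟨g, hg⟩ := exists_conj_mem (P := P) (z := (z : G))
            ⟨1, by rw [Subgroup.orderOf_coe, hz, pow_one]⟩
          refine ⟨_, hg, fun e => ?_, hN0.conj_mem _ z.2 g⟩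
          have h1 : z = 1 := Subtype.ext (conj_eq_one_iff.1 e)
          rw [h1, orderOf_one] at hz
          exact hp.out.ne_one hz.symm
      have e1 := hsing x (by
        intro e
        exact hx1 ((pp_self (pElt_of_mem hx)).symm.trans e))
      rw [← (hmem x).1 hxN, e1, hσC]
    · push Not at hall
      obtain ⟨t, ht, htN⟩ := hall
      obtain ⟨H, iH, iF, π, hπ, hker, hcen, hnab⟩ := exists_extension h hnc
      exact sign_degree ⟨hπ, hker, hcen⟩ h hnab hσ hne hsing ht fun e => htN ((hmem t).2 e)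
  have hd1 : (χ : G → ℂ) 1 = 1 ∧ (σ : ℂ) = 1 := by
    have h1 : σ * (dd : ℤ) = 1 := by
      rw [hdd] at hv; exact_mod_cast hv
    have h2 : (dd : ℤ) = 1 := Int.eq_one_of_mul_eq_one_left (by omega) h1
    rw [h2, mul_one] at h1
    exact ⟨by rw [hdd]; exact_mod_cast h2, by rw [h1, Int.cast_one]⟩
  obtain ⟨l, hl⟩ := exists_hom_of_degree_one (IsIrrCharacter.isCharacter χ.2) hd1.1
  have hlsing : ∀ g : G, pp p g ≠ 1 → l g = 1 := fun g hg => Units.ext (by
    have := hsing g hg
    rw [hd1.2, congrFun hl g] at this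
    simpa using this)
  have hlP : ∀ x ∈ (P : Subgroup G), l x = 1 := by
    intro x hx
    by_cases hx1 : x = 1
    · rw [hx1, map_one]
    · exact hlsing x fun e => hx1 ((pp_self (pElt_of_mem hx)).symm.trans e)
  have hlC : ∀ c : G, (∀ x ∈ (P : Subgroup G), c * x * c⁻¹ = x) → l c = 1 := by
    intro c hc
    obtain ⟨x, hx, hx1⟩ : ∃ x ∈ (P : Subgroup G), pp p (x * c) ≠ 1 := by
      by_cases hc1 : pp p c = 1
      · obtain ⟨x, hx, hx1⟩ : ∃ x ∈ (P : Subgroup G), x ≠ 1 := by
          have h9 := nine_le h hnc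
          by_contra hcon; push Not at hcon
          rw [(Subgroup.eq_bot_iff_forall _).2 hcon, Subgroup.card_bot] at h9
          omega
        refine ⟨x, hx, ?_⟩
        rwa [pp_mul_of_commute (mul_inv_eq_iff_eq_mul.1 (hc x hx) : c * x = x * c).symm,
          pp_self (pElt_of_mem hx), hc1, mul_one]
      · exact ⟨1, one_mem _, by rwa [one_mul]⟩
    have := hlsing _ hx1
    rwa [map_mul, hlP x hx, one_mul] at this
  set N := l.ker with hN
  have hPN : (P : Subgroup G) ≤ N := fun x hx => hlP x hx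
  have hnN : n ∉ N := by
    intro hn
    refine hne (Subtype.ext ?_)
    rw [show (χ : G → ℂ) = _ from hl]
    funext g
    show ((l g : ℂˣ) : ℂ) = 1
    suffices l g = 1 by rw [this, Units.val_one]
    have hg : g ∈ Subgroup.normalizer ((P : Subgroup G) : Set G) ⊔ N := by
      exact (frattini hPN).symm ▸ Subgroup.mem_top g
    have hle : Subgroup.normalizer ((P : Subgroup G) : Set G) ⊔ N ≤ N := by
      refine sup_le (fun m hm => ?_) le_rfl
      rcases h.norm m hm with e | e
      · exact hlC m e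
      · have h1 : l (m * n) = 1 := hlC _ fun x hx => by
          calc m * n * x * (m * n)⁻¹ = m * (n * x * n⁻¹) * m⁻¹ := by group
            _ = x := by rw [h.inv x hx, e _ (inv_mem hx), inv_inv]
        rwa [map_mul, (hn : l n = 1), mul_one] at h1
    exact hle hg
  -- the kernel is a normal Sylow subgroup
  have hcN : IsMulCommutative ((P.subtype hPN : Sylow p N) : Subgroup N) :=
    ⟨⟨fun a b => Subtype.ext (Subtype.ext (h.mul_comm' a.2 b.2))⟩⟩
  obtain ⟨S, K, hK, hKS⟩ := AbelianSylow.hasNormalPComplement_of_abelian (P.subtype hPN : Sylow p N)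
    hcN fun g hg _ => by
      have hgN : (g : G) ∈ Subgroup.normalizer ((P : Subgroup G) : Set G) :=
        Subgroup.mem_normalizer_fintype fun a ha =>
          (Subgroup.mem_normalizer_iff.1 hg ⟨a, hPN ha⟩).1 ha
      refine Subgroup.mem_centralizer_iff.2 fun a ha => Subtype.ext ?_
      show ((a : G)) * g = g * a
      rcases h.norm _ hgN with e | e
      · exact (mul_inv_eq_iff_eq_mul.1 (e a ha)).symm
      · refine absurd ?_ hnN
        have h1 : l ((g : G) * n) = 1 := hlC _ fun x hx => by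
          calc (g : G) * n * x * ((g : G) * n)⁻¹ = (g : G) * (n * x * n⁻¹) * (g : G)⁻¹ := by group
            _ = x := by rw [h.inv x hx, e _ (inv_mem hx), inv_inv]
        show l n = 1
        rwa [map_mul, (g.2 : l (g : G) = 1), one_mul] at h1
  haveI := hK
  have hKbot : K = ⊥ := by
    have hcopK : (Nat.card K).Coprime p := by
      rw [Nat.coprime_comm, hp.out.coprime_iff_not_dvd]
      exact fun hd => S.not_dvd_index (hKS.index_eq_card ▸ hd)
    have h1 : K ≤ pPrimeCore p N := PBasic.le_pPrimeCore hK hcopK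
    have h2 : pPrimeCore p N = ⊥ := by
      rw [eq_bot_iff, ← Subgroup.map_le_map_iff_of_injective (f := N.subtype) Subtype.val_injective,
        Subgroup.map_bot, ← hcore]
      refine PBasic.le_pPrimeCore ?_ ?_
      · haveI := PBasic.pPrimeCore_characteristic p N
        exact ConjAct.normal_of_characteristic_of_normal
      · rw [Subgroup.card_map_of_injective Subtype.val_injective]
        exact FittingCores.pPrimeCore_coprime p
    exact le_bot_iff.1 (h2 ▸ h1)
  have hNP : N ≤ (P : Subgroup G) := by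
    intro g hg
    have htop : ((P.subtype hPN : Sylow p N) : Subgroup N) = ⊤ := by
      refine Subgroup.eq_top_of_card_eq _ ?_
      rw [Sylow.card_eq_multiplicity, ← Sylow.card_eq_multiplicity S, ← hKS.card_mul, hKbot,
        Subgroup.card_bot, one_mul]
    exact (htop ▸ Subgroup.mem_top (⟨g, hg⟩ : N) :
      (⟨g, hg⟩ : N) ∈ ((P.subtype hPN : Sylow p N) : Subgroup N))
  have hPnormal : (P : Subgroup G).Normal := le_antisymm hNP hPN ▸ inferInstanceAs l.ker.Normal
  haveI := hPnormal
  have hU1 : PSeries.U p G 1 = ⊥ := by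
    have e := PSeries.relIndex_succ_even (p := p) (G := G) (n := 0) ⟨0, rfl⟩
    rw [PSeries.U_zero, Subgroup.relIndex_bot_left] at e
    exact le_bot_iff.1 (hcore ▸ PBasic.le_pPrimeCore (PSeries.U_normal p G 1) e)
  have hU2 : (P : Subgroup G) ≤ PSeries.U p G 2 := PSeries.le_succ_odd (n := 1) (by decide) (by
    rw [hU1, Subgroup.relIndex_bot_left]
    exact IsPGroup.iff_card.1 P.isPGroup')
  refine PSeries.pLengthLE_iff.2 (top_le_iff.1 (PSeries.le_succ_even (n := 2) (by decide) ?_))
  rw [Subgroup.relIndex_top_right]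
  exact Nat.Coprime.coprime_dvd_left (Subgroup.index_dvd_of_le hU2)
    ((Nat.coprime_comm.1 ((hp.out.coprime_iff_not_dvd).2 P.not_dvd_index)))
where
  frattini {G : Type u} [Group G] [Fintype G] {p : ℕ} [Fact p.Prime] {P : Sylow p G} {N : Subgroup G}
      [N.Normal] (hPN : (P : Subgroup G) ≤ N) :
      Subgroup.normalizer ((P : Subgroup G) : Set G) ⊔ N = ⊤ :=
    Sylow.normalizer_sup_eq_top' P hPN

/-- An abelian non-cyclic Sylow subgroup with inertial index two. -/
theorem residual_or_pLength {G : Type u} [Group G] [Finite G] {p : ℕ} [Fact p.Prime] (hp2 : p ≠ 2)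
    (P : Sylow p G) (hab : IsMulCommutative (P : Subgroup G))
    (hnc : ¬ IsCyclic (P : Subgroup G))
    (hidx : ((Subgroup.centralizer ((P : Subgroup G) : Set G)).subgroupOf
      (Subgroup.normalizer ((P : Subgroup G) : Set G))).index = 2) :
    pResidual p G ≠ ⊤ ∨ PLengthLE p 1 G := by
  classical
  by_cases hres : pResidual p G ≠ ⊤
  · exact Or.inl hres
  rw [not_not] at hres
  right
  haveI : Fintype G := Fintype.ofFinite G
  set C := Subgroup.centralizer ((P : Subgroup G) : Set G) with hC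
  set NP := Subgroup.normalizer ((P : Subgroup G) : Set G) with hNP
  haveI := hab
  have hC' : ∀ g ∈ C, ∀ x ∈ (P : Subgroup G), g * x * g⁻¹ = x := fun g hg x hx =>
    mul_inv_eq_iff_eq_mul.2 (Subgroup.mem_centralizer_iff.1 hg x hx).symm
  obtain ⟨⟨n, hn⟩, hnC⟩ : ∃ n : NP, n ∉ C.subgroupOf NP := by
    by_contra hc
    push Not at hc
    rw [(Subgroup.eq_top_iff' _).2 hc, Subgroup.index_top] at hidx
    omega
  have hcases : ∀ g ∈ NP, g ∈ C ∨ n⁻¹ * g ∈ C := by
    intro g hg
    by_cases hgC : g ∈ C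
    · exact Or.inl hgC
    · right
      exact ((Subgroup.mul_mem_iff_of_index_two hidx (a := (⟨n, hn⟩ : NP)⁻¹) (b := ⟨g, hg⟩)).2
        ⟨fun h1 => absurd (by simpa using inv_mem h1) hnC, fun h1 => absurd h1 hgC⟩)
  have hn2 : n * n ∈ C := (Subgroup.mul_self_mem_of_index_two hidx (⟨n, hn⟩ : NP))
  have hmemP : ∀ x ∈ (P : Subgroup G), n * x * n⁻¹ ∈ (P : Subgroup G) := fun x hx =>
    (Subgroup.mem_normalizer_iff.1 hn x).1 hx
  have hcomm : ∀ x ∈ (P : Subgroup G), ∀ y ∈ (P : Subgroup G), x * y = y * x := fun x hx y hy =>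
    congrArg Subtype.val (hab.is_comm.comm ⟨x, hx⟩ ⟨y, hy⟩)
  -- inversion
  let Inv : Subgroup G :=
    { carrier := {x | x ∈ (P : Subgroup G) ∧ n * x * n⁻¹ = x⁻¹}
      one_mem' := ⟨one_mem _, by simp⟩
      mul_mem' := by
        rintro a b ⟨ha, ha'⟩ ⟨hb, hb'⟩
        refine ⟨mul_mem ha hb, ?_⟩
        calc n * (a * b) * n⁻¹ = (n * a * n⁻¹) * (n * b * n⁻¹) := by group
          _ = a⁻¹ * b⁻¹ := by rw [ha', hb']
          _ = (a * b)⁻¹ := by rw [mul_inv_rev, hcomm _ (inv_mem ha) _ (inv_mem hb)]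
      inv_mem' := by
        rintro a ⟨ha, ha'⟩
        refine ⟨inv_mem ha, ?_⟩
        calc n * a⁻¹ * n⁻¹ = (n * a * n⁻¹)⁻¹ := by group
          _ = a⁻¹⁻¹ := by rw [ha'] }
  have hinv : ∀ x ∈ (P : Subgroup G), n * x * n⁻¹ = x⁻¹ := by
    have hle : ⁅(P : Subgroup G), NP⁆ ≤ Inv := by
      rw [Subgroup.commutator_le]
      intro x hx g hg
      rcases hcases g hg with e | e
      · rw [show ⁅x, g⁆ = 1 from by
          rw [commutatorElement_def, mul_assoc x g, mul_assoc, hC' g e x⁻¹ (inv_mem hx), mul_inv_cancel]]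
        exact one_mem _
      · have e1 : g * x⁻¹ * g⁻¹ = n * x⁻¹ * n⁻¹ := by
          calc g * x⁻¹ * g⁻¹ = n * ((n⁻¹ * g) * x⁻¹ * (n⁻¹ * g)⁻¹) * n⁻¹ := by group
            _ = n * x⁻¹ * n⁻¹ := by rw [hC' _ e x⁻¹ (inv_mem hx)]
        rw [show ⁅x, g⁆ = x * (n * x⁻¹ * n⁻¹) from by
          rw [commutatorElement_def, mul_assoc x g, mul_assoc, e1]]
        refine ⟨mul_mem hx (hmemP _ (inv_mem hx)), ?_⟩
        calc n * (x * (n * x⁻¹ * n⁻¹)) * n⁻¹ = (n * x * n⁻¹) * ((n * n) * x⁻¹ * (n * n)⁻¹) := by group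
          _ = (n * x * n⁻¹) * x⁻¹ := by rw [hC' _ hn2 _ (inv_mem hx)]
          _ = _ := by group
    intro x hx
    have : x ∈ (P : Subgroup G) ⊓ pResidual p G := ⟨hx, hres ▸ Subgroup.mem_top x⟩
    rw [AbelianSylow.inf_pResidual_eq_commutator P hab] at this
    exact (hle this).2
  -- the quotient by the core
  set O := pPrimeCore p G with hO
  let f := QuotientGroup.mk' O
  have hf : Function.Surjective f := QuotientGroup.mk'_surjective O
  have hkO : (Nat.card f.ker).Coprime p := by
    rw [QuotientGroup.ker_mk']; exact FittingCores.pPrimeCore_coprime p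
  refine PSeries.pLengthLE_of_ker_coprime f hkO ?_
  haveI : Fintype (G ⧸ O) := Fintype.ofFinite _
  let P' : Sylow p (G ⧸ O) := P.mapSurjective hf
  have hP' : (P' : Subgroup (G ⧸ O)) = (P : Subgroup G).map f := rfl
  have hinj : Function.Injective (f.comp (P : Subgroup G).subtype) := by
    rw [injective_iff_map_eq_one]
    intro a ha
    refine Subtype.ext (PBasic.eq_one_of_isPGroup_of_coprime P.isPGroup' a.2 ?_)
    exact Nat.Coprime.coprime_dvd_left (Subgroup.orderOf_dvd_natCard f.ker ha) hkO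
  have hinvert : Inverted P' (f n) := by
    refine ⟨hp2, ⟨⟨?_⟩⟩, ?_, ?_, ?_⟩
    · rintro ⟨-, a, ha, rfl⟩ ⟨-, b, hb, rfl⟩
      exact Subtype.ext (show f a * f b = f b * f a by rw [← map_mul, hcomm a ha b hb, map_mul])
    · rw [hP']
      exact Subgroup.le_normalizer_map f (Subgroup.mem_map_of_mem f hn)
    · rintro _ ⟨a, ha, rfl⟩
      rw [← map_inv, ← map_mul, ← map_mul, hinv a ha, map_inv]
    · intro y hy
      rw [hP', ← PConstr.map_normalizer_eq f hf hkO P.isPGroup'] at hy
      obtain ⟨g, hg, rfl⟩ := hy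
      rcases hcases g hg with e | e
      · left
        rintro _ ⟨a, ha, rfl⟩
        rw [← map_inv, ← map_mul, ← map_mul, hC' g e a ha]
      · right
        rintro _ ⟨a, ha, rfl⟩
        rw [← map_inv, ← map_mul, ← map_mul, ← map_inv]
        congr 1
        calc g * a * g⁻¹ = n * ((n⁻¹ * g) * a * (n⁻¹ * g)⁻¹) * n⁻¹ := by group
          _ = a⁻¹ := by rw [hC' _ e a ha, hinv a ha]
  refine pLength_one hinvert (fun hcyc => hnc ?_) (PBasic.pPrimeCore_quotient_pPrimeCore p G)
  exact isCyclic_of_injective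
    ((f.comp (P : Subgroup G).subtype).codRestrict (P' : Subgroup (G ⧸ O)) fun a =>
      Subgroup.mem_map_of_mem f a.2)
    fun a b e => hinj (congrArg Subtype.val e)

end Cfsg.Agent.SmithTyrer
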