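import Cfsg.Agent.Lib.Blocks.SecondMain
import Cfsg.Agent.Lib.Char.BrauerInduction
import Cfsg.Agent.Lib.Transfer.Abelian

/-!
The `p`-part of an element, sums over sections, and functions of the `p`-part.
-/

set_option autoImplicit false
set_option linter.unusedSectionVars false
set_option linter.style.haveILetI false

namespace Cfsg.Agent.SmithTyrer

open Cfsg Cfsg.Agent.Char Cfsg.Agent.Blocks

universe u v

variable {G : Type u} [Group G] [Fintype G] {p : ℕ} [hp : Fact p.Prime]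

/-- The `p`-part. -/
noncomputable def pp (p : ℕ) [Fact p.Prime] (g : G) : G :=
  (exists_isPPart (p := p) Fact.out g).choose

theorem pp_spec (g : G) : IsPPart p g (pp p g) := (exists_isPPart (p := p) hp.out g).choose_spec

theorem pp_eq {g y : G} (h : IsPPart p g y) : pp p g = y := isPPart_unique hp.out (pp_spec g) h

theorem pp_elt (g : G) : ∃ k, orderOf (pp p g) = p ^ k := by
  obtain ⟨s, -, -, hk, -⟩ := pp_spec (p := p) g
  exact hk

theorem pp_self {y : G} (hy : ∃ k, orderOf y = p ^ k) : pp p y = y :=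
  pp_eq ⟨1, mul_one y, Commute.one_right y, hy, by simpa using hp.out.ne_one⟩

theorem pp_mul {y s : G} (hy : ∃ k, orderOf y = p ^ k) (hc : Commute y s) (hs : ¬ p ∣ orderOf s) :
    pp p (y * s) = y :=
  pp_eq ⟨s, rfl, hc, hy, hs⟩

theorem pp_conj (g c : G) : pp p (c * g * c⁻¹) = c * pp p g * c⁻¹ :=
  pp_eq (IsPPart.conj (pp_spec g) c)

theorem pp_inv (g : G) : pp p g⁻¹ = (pp p g)⁻¹ := pp_eq (IsPPart.inv (pp_spec g))

theorem pp_eq_one_iff (g : G) : pp p g = 1 ↔ ¬ p ∣ orderOf g := by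
  rw [← isPPart_one_iff hp.out]
  exact ⟨fun h => h ▸ pp_spec g, pp_eq⟩

theorem pp_mem (H : Subgroup G) {g : G} (hg : g ∈ H) : pp p g ∈ H := by
  obtain ⟨u, v, huv, hu, hv, hk, hv'⟩ := Cfsg.Agent.PBasic.exists_pPart_mul (p := p) g
  have hzg : ∀ w ∈ Subgroup.zpowers g, w ∈ H := fun w hw =>
    (Subgroup.zpowers_le.2 hg) hw
  have : pp p g = u := by
    refine pp_eq ⟨v, huv, ?_, hk, (Nat.Prime.coprime_iff_not_dvd hp.out).1 hv'.symm⟩
    obtain ⟨i, rfl⟩ := Subgroup.mem_zpowers_iff.1 hu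
    obtain ⟨j, rfl⟩ := Subgroup.mem_zpowers_iff.1 hv
    exact ((Commute.refl g).zpow_left i).zpow_right j
  exact this ▸ hzg u hu

theorem pp_map {H : Type v} [Group H] [Fintype H] (f : G →* H) (g : G) :
    pp p (f g) = f (pp p g) := by
  obtain ⟨s, hs, hc, ⟨k, hk⟩, hs'⟩ := pp_spec (p := p) g
  refine pp_eq ⟨f s, by rw [← map_mul, hs], hc.map f, ?_, fun h => hs' (h.trans (orderOf_map_dvd f s))⟩
  obtain ⟨i, -, hi⟩ := (Nat.dvd_prime_pow hp.out).1 (hk ▸ orderOf_map_dvd f (pp p g))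
  exact ⟨i, hi⟩

open scoped Classical in
/-- The elements with trivial `p`-part centralising `y`. -/
noncomputable def regSet (p : ℕ) (y : G) : Finset G :=
  Finset.univ.filter fun s => Commute s y ∧ ¬ p ∣ orderOf s

theorem mem_regSet {y s : G} : s ∈ regSet p y ↔ Commute s y ∧ ¬ p ∣ orderOf s := by
  classical
  simp [regSet]

open scoped Classical in
/-- The elements of `p`-power order. -/
noncomputable def pElts (p : ℕ) (G : Type u) [Group G] [Fintype G] : Finset G :=
  Finset.univ.filter fun y => ∃ k, orderOf y = p ^ k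

theorem mem_pElts {y : G} : y ∈ pElts p G ↔ ∃ k, orderOf y = p ^ k := by
  classical
  simp [pElts]

/-- A sum over the group, section by section. -/
theorem sum_sections {A : Type*} [AddCommMonoid A] (f : G → A) :
    ∑ g : G, f g = ∑ y ∈ pElts p G, ∑ s ∈ regSet p y, f (y * s) := by
  classical
  rw [← Finset.sum_fiberwise_of_maps_to (s := Finset.univ) (t := pElts p G) (g := pp p)
    (fun g _ => mem_pElts.2 (pp_elt g))]
  refine Finset.sum_congr rfl fun y hy => ?_
  refine Finset.sum_bij' (fun g _ => y⁻¹ * g) (fun s _ => y * s) (fun g hg => ?_) (fun s hs => ?_)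
    (fun g _ => mul_inv_cancel_left y g) (fun s _ => inv_mul_cancel_left y s) (fun g _ => ?_)
  · obtain ⟨-, rfl⟩ := Finset.mem_filter.1 hg
    obtain ⟨s, hs, hc, -, hodd⟩ := pp_spec (p := p) g
    rw [show (pp p g)⁻¹ * g = s from inv_mul_eq_of_eq_mul hs.symm]
    exact mem_regSet.2 ⟨hc.symm, hodd⟩
  · obtain ⟨hc, hodd⟩ := mem_regSet.1 hs
    exact Finset.mem_filter.2 ⟨Finset.mem_univ _, pp_mul (mem_pElts.1 hy) hc.symm hodd⟩
  · rw [mul_inv_cancel_left]

section Block

variable {M : Ideal AlgInt} [M.IsPrime]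

/-- Characters outside the principal block sum to zero on every section. -/
theorem sum_section_eq_zero (hM : IsPModular p M) {χ : IrrCharacter G}
    (hχ : χ ∉ principalBlock M G) {y : G} (hy : ∃ k, orderOf y = p ^ k) :
    ∑ s ∈ regSet p y, (χ : G → ℂ) (y * s) = 0 := by
  classical
  set C := Subgroup.centralizer ({y} : Set G) with hC
  haveI : Fintype C := Fintype.ofFinite _
  have key : ∑ c ∈ Finset.univ.filter (fun c : C => ¬ p ∣ orderOf c),
      secFun y C (χ : G → ℂ) c = ∑ s ∈ regSet p y, (χ : G → ℂ) (y * s) := by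
    refine Finset.sum_bij (fun c _ => (c : G)) (fun c hc => ?_)
      (fun _ _ _ _ h => Subtype.ext h) (fun s hs => ?_) (fun c _ => rfl)
    · exact mem_regSet.2 ⟨Subgroup.mem_centralizer_singleton_iff.1 c.2,
        by rw [Subgroup.orderOf_coe]; exact (Finset.mem_filter.1 hc).2⟩
    · obtain ⟨hc, hodd⟩ := mem_regSet.1 hs
      exact ⟨⟨s, Subgroup.mem_centralizer_singleton_iff.2 hc.eq⟩,
        Finset.mem_filter.2 ⟨Finset.mem_univ _, by rwa [← Subgroup.orderOf_coe]⟩, rfl⟩
  rw [← key]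
  have hB : IsPBlock M (blockOf M (χ : G → ℂ)) := isPBlock_blockOf χ
  have hexp : ∀ c : C, secFun y C (χ : G → ℂ) c =
      ∑ b ∈ blocks M C, blockPart b (secFun y C (χ : G → ℂ)) c := fun c =>
    (sum_blockPart (isClassFunction_secFun hC (IsCharacter.isClassFunction (irr_isCharacter χ))) c).symm
  simp only [hexp]
  rw [Finset.sum_comm]
  refine Finset.sum_eq_zero fun b hb => ?_
  by_cases hb0 : b = principalBlock M C
  · subst hb0
    refine Finset.sum_eq_zero fun c hc => ?_
    refine blockPart_secFun_eq_zero hM hy hC hB (self_mem_blockOf χ) (isPBlock_principalBlock M C)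
      (fun hind => hχ ?_) (Finset.mem_filter.1 hc).2
    have h1 : principalBlock M C ∈ unitBlocks M (restrictElt C (blockEltR M (principalBlock M G))) := by
      rw [unitBlocks_principal hM hy hC]; exact Finset.mem_singleton_self _
    rw [mem_unitBlocks_iff_induced' hM hy hC (isPBlock_principalBlock M G)] at h1
    rw [isInducedBlock_unique h1 hind]
    exact self_mem_blockOf χ
  · simp only [blockPart_eq_sum]
    rw [Finset.sum_comm]
    refine Finset.sum_eq_zero fun φ hφ => ?_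
    rw [← Finset.mul_sum]
    have h1 := sum_regular_eq_zero hM (χ := φ) (ψ := Char.principal C) fun h => hb0 (isPBlock_eq_of_mem
      (mem_blocks.1 hb) (isPBlock_principalBlock M C) (Finset.mem_filter.1 hφ).2 (sameBlock_symm h))
    simp only [Char.principal, map_one, mul_one] at h1
    rw [h1, mul_zero]

end Block

theorem pp_mem_zpowers (g : G) : pp p g ∈ Subgroup.zpowers g := pp_mem _ (Subgroup.mem_zpowers g)

theorem pp_mul_of_commute {a b : G} (h : Commute a b) : pp p (a * b) = pp p a * pp p b := by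
  obtain ⟨s, hs, hc, ⟨i, hi⟩, hs'⟩ := pp_spec (p := p) a
  obtain ⟨t, ht, hd, ⟨j, hj⟩, ht'⟩ := pp_spec (p := p) b
  have hz : ∀ x ∈ Subgroup.zpowers a, ∀ y ∈ Subgroup.zpowers b, Commute x y := by
    intro x hx y hy
    obtain ⟨m, rfl⟩ := Subgroup.mem_zpowers_iff.1 hx
    obtain ⟨n, rfl⟩ := Subgroup.mem_zpowers_iff.1 hy
    exact (h.zpow_left m).zpow_right n
  have hsm : s ∈ Subgroup.zpowers a := by
    rw [show s = (pp p a)⁻¹ * a from eq_inv_mul_of_mul_eq hs]
    exact mul_mem (inv_mem (pp_mem_zpowers a)) (Subgroup.mem_zpowers a)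
  have htm : t ∈ Subgroup.zpowers b := by
    rw [show t = (pp p b)⁻¹ * b from eq_inv_mul_of_mul_eq ht]
    exact mul_mem (inv_mem (pp_mem_zpowers b)) (Subgroup.mem_zpowers b)
  have hpq : Commute (pp p a) (pp p b) := hz _ (pp_mem_zpowers a) _ (pp_mem_zpowers b)
  have hst : Commute s t := hz _ hsm _ htm
  refine pp_eq ⟨s * t, ?_, ?_, ?_, ?_⟩
  · rw [(hz _ hsm _ (pp_mem_zpowers b)).symm.mul_mul_mul_comm, hs, ht]
  · exact ((hc.mul_right (hz _ (pp_mem_zpowers a) _ htm))).mul_left
      ((hz _ hsm _ (pp_mem_zpowers b)).symm.mul_right hd)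
  · obtain ⟨k, -, hk⟩ := (Nat.dvd_prime_pow hp.out).1 (show orderOf (pp p a * pp p b) ∣ p ^ (i + j) by
      refine hpq.orderOf_mul_dvd_lcm.trans (Nat.lcm_dvd ?_ ?_)
      · rw [hi]; exact pow_dvd_pow p (Nat.le_add_right i j)
      · rw [hj]; exact pow_dvd_pow p (Nat.le_add_left j i))
    exact ⟨k, hk⟩
  · intro hd'
    rcases hp.out.dvd_mul.1 (hd'.trans (hst.orderOf_mul_dvd_lcm.trans (Nat.lcm_dvd_mul _ _))) with
      h1 | h1
    exacts [hs' h1, ht' h1]

/-- The `p`-part is a homomorphism on an elementary group. -/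
theorem exists_pp_hom {r : ℕ} (hr : r.Prime) (E : Subgroup G) (hE : Cfsg.IsElementary r E) :
    ∃ π : E →* G, (∀ e : E, π e = pp p (e : G)) ∧
      ∀ a b : E, Commute (pp p (a : G)) ((b : G) * (pp p (b : G))⁻¹) := by
  classical
  haveI : Fact r.Prime := ⟨hr⟩
  haveI : Fintype E := Fintype.ofFinite E
  obtain ⟨x, hx, hcop, k, hk⟩ := hE
  obtain ⟨S⟩ : Nonempty (Sylow r E) := inferInstance
  haveI : (Subgroup.zpowers x).Normal := ⟨fun z hz g => by
    rwa [Subgroup.mem_center_iff.1 (Subgroup.zpowers_le.2 hx hz) g, mul_inv_cancel_right]⟩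
  have htop : Subgroup.zpowers x ⊔ (S : Subgroup E) = ⊤ := by
    refine Subgroup.eq_top_of_card_eq _ (Nat.dvd_antisymm (Subgroup.card_subgroup_dvd_card _) ?_)
    have hSc : Nat.card (S : Subgroup E) = r ^ k := by
      rw [S.card_eq_multiplicity, ← (Subgroup.zpowers x).index_mul_card, hk, Nat.card_zpowers,
        Nat.factorization_mul (pow_ne_zero _ hr.ne_zero) (orderOf_pos x).ne', Finsupp.add_apply,
        hr.factorization_pow, Finsupp.single_eq_same,
        Nat.factorization_eq_zero_of_not_dvd ((Nat.Prime.coprime_iff_not_dvd hr).1 hcop.symm),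
        add_zero]
    rw [← (Subgroup.zpowers x).index_mul_card, hk, Nat.card_zpowers]
    refine Nat.Coprime.mul_dvd_of_dvd_of_dvd (hcop.symm.pow_left k) ?_ ?_
    · exact hSc ▸ Subgroup.card_dvd_of_le le_sup_right
    · exact Nat.card_zpowers x ▸ Subgroup.card_dvd_of_le le_sup_left
  have hS : ∀ s ∈ (S : Subgroup E), pp p s = if r = p then s else 1 := by
    intro s hs
    obtain ⟨j, hj⟩ := IsPGroup.iff_orderOf.1 S.2 ⟨s, hs⟩
    rw [Subgroup.orderOf_mk] at hj
    split_ifs with h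
    · subst h
      exact pp_self ⟨j, hj⟩
    · rw [pp_eq_one_iff, hj]
      exact fun hd => h ((Nat.prime_dvd_prime_iff_eq hp.out hr).1 (hp.out.dvd_of_dvd_pow hd)).symm
  have hmul : ∀ a b : E, pp p (a * b) = pp p a * pp p b := by
    intro a b
    have hdec : ∀ e : E, ∃ z ∈ Subgroup.center E, ∃ s ∈ (S : Subgroup E), e = z * s := by
      intro e
      have he : e ∈ Subgroup.zpowers x ⊔ (S : Subgroup E) := htop ▸ Subgroup.mem_top e
      obtain ⟨z, hz, s, hs, rfl⟩ := Subgroup.mem_sup_of_normal_left.1 he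
      exact ⟨z, Subgroup.zpowers_le.2 hx hz, s, hs, rfl⟩
    obtain ⟨y, hy, s, hs, rfl⟩ := hdec a
    obtain ⟨z, hz, t, ht, rfl⟩ := hdec b
    have hc : ∀ w ∈ Subgroup.center E, ∀ u : E, Commute w u := fun w hw u =>
      (Subgroup.mem_center_iff.1 hw u).symm
    have hp1 : ∀ w ∈ Subgroup.center E, pp p w ∈ Subgroup.center E := fun w hw => pp_mem _ hw
    rw [(hc z hz s).symm.mul_mul_mul_comm, pp_mul_of_commute (hc _ (mul_mem hy hz) _),
      pp_mul_of_commute (hc y hy z), pp_mul_of_commute (hc y hy s), pp_mul_of_commute (hc z hz t),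
      (hc _ (hp1 z hz) (pp p s)).symm.mul_mul_mul_comm, hS _ (mul_mem hs ht), hS s hs, hS t ht]
    split_ifs <;> simp
  refine ⟨E.subtype.comp { toFun := pp p, map_one' := ?_, map_mul' := hmul }, fun e => ?_,
    fun a b => ?_⟩
  · rw [pp_eq_one_iff, orderOf_one]
    exact hp.out.not_dvd_one
  · exact (pp_map E.subtype e).symm
  · rw [show pp p (a : G) = E.subtype (pp p a) from pp_map E.subtype a,
      show pp p (b : G) = E.subtype (pp p b) from pp_map E.subtype b]
    suffices hc : Commute (pp p a) (b * (pp p b)⁻¹) by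
      simpa using hc.map E.subtype
    have hdec : ∀ e : E, ∃ z ∈ Subgroup.center E, ∃ s ∈ (S : Subgroup E), e = z * s := by
      intro e
      have he : e ∈ Subgroup.zpowers x ⊔ (S : Subgroup E) := htop ▸ Subgroup.mem_top e
      obtain ⟨z, hz, s, hs, rfl⟩ := Subgroup.mem_sup_of_normal_left.1 he
      exact ⟨z, Subgroup.zpowers_le.2 hx hz, s, hs, rfl⟩
    obtain ⟨y, hy, s, hs, rfl⟩ := hdec a
    obtain ⟨z, hz, t, ht, rfl⟩ := hdec b
    have hc : ∀ w ∈ Subgroup.center E, ∀ u : E, Commute w u := fun w hw u =>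
      (Subgroup.mem_center_iff.1 hw u).symm
    rw [pp_mul_of_commute (hc y hy s), pp_mul_of_commute (hc z hz t), hS s hs, hS t ht]
    have hy' := pp_mem (p := p) _ hy
    have hz' := pp_mem (p := p) _ hz
    by_cases hrp : r = p
    · rw [if_pos hrp, if_pos hrp, mul_inv_rev, ← mul_assoc, mul_inv_cancel_right]
      exact (hc _ (mul_mem hz (inv_mem hz')) _).symm
    · rw [if_neg hrp, if_neg hrp, mul_one]
      exact hc _ hy' _

/-- A stable virtual character of a Sylow subgroup extends through the `p`-part. -/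
theorem exists_sectional (P : Sylow p G) (f : ↥(P : Subgroup G) → ℂ)
    (hst : ∀ x y : (P : Subgroup G), IsConj (x : G) (y : G) → f x = f y)
    (hgen : IsGeneralizedCharacter (P : Subgroup G) f) :
    ∃ θ : G → ℂ, IsGeneralizedCharacter G θ ∧ (∀ g, θ g = θ (pp p g)) ∧
      ∀ x : (P : Subgroup G), θ (x : G) = f x := by
  classical
  have hconj : ∀ T : Subgroup G, IsPGroup p T → ∃ k : G, ∀ t ∈ T, k * t * k⁻¹ ∈ (P : Subgroup G) := by
    intro T hT
    obtain ⟨Q, hQ⟩ := hT.exists_le_sylow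
    obtain ⟨k, hk⟩ := MulAction.exists_smul_eq G Q P
    refine ⟨k, fun t ht => ?_⟩
    rw [← hk, Sylow.coe_subgroup_smul, Subgroup.mem_smul_pointwise_iff_exists]
    exact ⟨t, hQ ht, by simp [MulAut.smul_def]⟩
  have hex : ∀ g : G, ∃ x : (P : Subgroup G), IsConj (pp p g) (x : G) := fun g => by
    obtain ⟨i, hi⟩ := pp_elt (p := p) g
    obtain ⟨k, hk⟩ := hconj (Subgroup.zpowers (pp p g))
      (IsPGroup.of_card (n := i) (by rw [Nat.card_zpowers, hi]))
    exact ⟨⟨_, hk _ (Subgroup.mem_zpowers _)⟩, isConj_iff.2 ⟨k, rfl⟩⟩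
  choose c hc using hex
  refine ⟨fun g => f (c g), ?_, fun g => ?_, fun x => ?_⟩
  · refine isGeneralizedCharacter_of_elementary (fun g h => hst _ _ ?_) fun E r hr hE => ?_
    · refine (hc (h * g * h⁻¹)).symm.trans (IsConj.trans ?_ (hc g))
      rw [pp_conj]
      exact (isConj_iff.2 ⟨h, rfl⟩).symm
    obtain ⟨π, hπ, -⟩ := exists_pp_hom (p := p) hr E hE
    have hT : IsPGroup p π.range := IsPGroup.iff_orderOf.2 fun t => by
      obtain ⟨e, he⟩ := t.2
      obtain ⟨j, hj⟩ := pp_elt (p := p) (e : G)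
      exact ⟨j, by rw [← Subgroup.orderOf_coe, ← he, hπ, hj]⟩
    obtain ⟨k, hk⟩ := hconj _ hT
    let ψ : E →* (P : Subgroup G) :=
      ((MulAut.conj k).toMonoidHom.comp π).codRestrict _ fun e => hk _ ⟨e, rfl⟩
    have e : (fun e : E => f (c (e : G))) = fun e => f (ψ e) := funext fun e => hst _ _ (by
      refine (hc (e : G)).symm.trans (isConj_iff.2 ⟨k, ?_⟩)
      show k * pp p (e : G) * k⁻¹ = k * π e * k⁻¹
      rw [hπ])
    rw [e]
    exact IsGeneralizedCharacter.comp hgen ψ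
  · refine hst _ _ ?_
    have h1 := hc (pp p g)
    rw [pp_self (pp_elt g)] at h1
    exact (hc g).symm.trans h1
  · refine hst _ _ ?_
    have h1 := hc (x : G)
    obtain ⟨j, hj⟩ := IsPGroup.iff_orderOf.1 P.2 x
    rw [pp_self ⟨j, by rwa [Subgroup.orderOf_coe]⟩] at h1
    exact h1.symm

end Cfsg.Agent.SmithTyrer
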