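import Mathlib.Algebra.Order.BigOperators.Group.Finset
import Mathlib.Data.Fintype.BigOperators
import Mathlib.Tactic.Linarith
import Mathlib.Tactic.IntervalCases

/-!
At least four integral vectors of norm two with all mutual products one share an entry.
-/

set_option autoImplicit false

namespace Cfsg.Agent.SmithTyrer

variable {α : Type*} [Fintype α]

theorem support_card [DecidableEq α] {c : α → ℤ} (hc : ∑ i, c i * c i = 2) :
    (Finset.univ.filter fun i => c i ≠ 0).card = 2 ∧ ∀ i, c i ≠ 0 → c i * c i = 1 := by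
  classical
  have hle : ∀ i, c i * c i ≤ 2 := fun i =>
    hc ▸ Finset.single_le_sum (fun j _ => mul_self_nonneg (c j)) (Finset.mem_univ i)
  have hsq : ∀ i, c i ≠ 0 → c i * c i = 1 := by
    intro i hi
    have h1 := hle i
    have h2 : -1 ≤ c i := by nlinarith
    have h3 : c i ≤ 1 := by nlinarith
    rcases (show c i = -1 ∨ c i = 1 by omega) with e | e <;> rw [e] <;> rfl
  refine ⟨?_, hsq⟩
  rw [← Finset.sum_filter_ne_zero] at hc
  have e : (Finset.univ.filter fun i => c i * c i ≠ 0) = Finset.univ.filter fun i => c i ≠ 0 :=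
    Finset.filter_congr fun i _ => by simp
  rw [e, Finset.sum_congr rfl (g := fun _ => (1 : ℤ)) fun i hi => hsq i (Finset.mem_filter.1 hi).2,
    Finset.sum_const, nsmul_eq_mul, mul_one] at hc
  exact_mod_cast hc

theorem meet [DecidableEq α] {c d : α → ℤ} (hc : ∑ i, c i * c i = 2) (hd : ∑ i, d i * d i = 2)
    (hcd : ∑ i, c i * d i = 1) :
    ∃ a, c a * d a = 1 ∧ ∀ i, c i ≠ 0 → d i ≠ 0 → i = a := by
  classical
  obtain ⟨hcc, hc1⟩ := support_card hc
  obtain ⟨-, hd1⟩ := support_card hd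
  set T := Finset.univ.filter fun i => c i ≠ 0 ∧ d i ≠ 0 with hT
  have hsum : ∑ i ∈ T, c i * d i = 1 := by
    rw [← hcd]
    refine Finset.sum_subset (Finset.subset_univ _) fun i _ hi => ?_
    simp only [hT, Finset.mem_filter, Finset.mem_univ, true_and, not_and_or, not_not] at hi
    rcases hi with e | e <;> simp [e]
  have hle : T.card ≤ 2 := hcc ▸ Finset.card_le_card (fun i hi => by
    simp only [hT, Finset.mem_filter, Finset.mem_univ, true_and] at hi ⊢
    exact hi.1)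
  have hpm : ∀ i ∈ T, c i * d i = 1 ∨ c i * d i = -1 := by
    intro i hi
    obtain ⟨-, h1, h2⟩ := Finset.mem_filter.1 hi
    rcases Int.eq_one_or_neg_one_of_mul_eq_one (hc1 i h1) with e | e <;>
      rcases Int.eq_one_or_neg_one_of_mul_eq_one (hd1 i h2) with f | f <;> simp [e, f]
  interval_cases hcard : T.card
  · rw [Finset.card_eq_zero.1 hcard] at hsum
    simp at hsum
  · obtain ⟨a, ha⟩ := Finset.card_eq_one.1 hcard
    rw [ha, Finset.sum_singleton] at hsum
    exact ⟨a, hsum, fun i h1 h2 => Finset.mem_singleton.1 (ha ▸ Finset.mem_filter.2 ⟨Finset.mem_univ i, h1, h2⟩)⟩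
  · obtain ⟨a, b, hab, he⟩ := Finset.card_eq_two.1 hcard
    rw [he, Finset.sum_pair hab] at hsum
    rcases hpm a (by simp [he]) with e | e <;> rcases hpm b (by simp [he]) with f | f <;> omega

/-- The common entry. -/
theorem exists_center (V : Finset (α → ℤ)) (h4 : 4 ≤ V.card)
    (hn : ∀ c ∈ V, ∑ i, c i * c i = 2) (hin : ∀ c ∈ V, ∀ d ∈ V, c ≠ d → ∑ i, c i * d i = 1) :
    ∃ a σ, σ * σ = (1 : ℤ) ∧ ∀ c ∈ V, c a = σ := by
  classical
  obtain ⟨c₁, hc₁⟩ : V.Nonempty := Finset.card_pos.1 (by omega)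
  obtain ⟨c₂, hc₂, h21⟩ := Finset.exists_mem_notMem_of_card_lt_card
    (show ({c₁} : Finset (α → ℤ)).card < V.card by rw [Finset.card_singleton]; omega)
  rw [Finset.mem_singleton] at h21
  obtain ⟨a, ha, -⟩ := meet (hn _ hc₁) (hn _ hc₂) (hin _ hc₁ _ hc₂ (Ne.symm h21))
  have ha1 : c₁ a ≠ 0 := fun e => by rw [e, zero_mul] at ha; exact zero_ne_one ha
  have ha2 : c₂ a ≠ 0 := fun e => by rw [e, mul_zero] at ha; exact zero_ne_one ha
  have all : ∀ c ∈ V, c a ≠ 0 := by
    intro c₃ hc₃ h30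
    have h31 : c₃ ≠ c₁ := fun e => ha1 (e ▸ h30)
    have h32 : c₃ ≠ c₂ := fun e => ha2 (e ▸ h30)
    obtain ⟨b, hb, -⟩ := meet (hn _ hc₁) (hn _ hc₃) (hin _ hc₁ _ hc₃ (Ne.symm h31))
    obtain ⟨c, hc, -⟩ := meet (hn _ hc₂) (hn _ hc₃) (hin _ hc₂ _ hc₃ (Ne.symm h32))
    obtain ⟨c₄, hc₄, h4'⟩ := Finset.exists_mem_notMem_of_card_lt_card
      (show ({c₁, c₂, c₃} : Finset (α → ℤ)).card < V.card by
        refine lt_of_le_of_lt Finset.card_le_three ?_
        omega)
    simp only [Finset.mem_insert, Finset.mem_singleton, not_or] at h4'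
    have hb1 : c₁ b ≠ 0 := fun e => by rw [e, zero_mul] at hb; exact zero_ne_one hb
    have hb3 : c₃ b ≠ 0 := fun e => by rw [e, mul_zero] at hb; exact zero_ne_one hb
    have hc2 : c₂ c ≠ 0 := fun e => by rw [e, zero_mul] at hc; exact zero_ne_one hc
    have hc3 : c₃ c ≠ 0 := fun e => by rw [e, mul_zero] at hc; exact zero_ne_one hc
    have hab : a ≠ b := fun e => hb3 (e ▸ h30)
    have hac : a ≠ c := fun e => hc3 (e ▸ h30)
    have hsupp : ∀ (w : α → ℤ), w ∈ V → ∀ i j, i ≠ j → w i ≠ 0 → w j ≠ 0 → ∀ k, w k ≠ 0 →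
        k = i ∨ k = j := by
      intro w hw i j hij hi hj k hk
      have e : (Finset.univ.filter fun t => w t ≠ 0) = {i, j} := by
        refine (Finset.eq_of_subset_of_card_le ?_ ?_).symm
        · intro t ht
          simp only [Finset.mem_insert, Finset.mem_singleton] at ht
          rcases ht with rfl | rfl <;> simp [hi, hj]
        · rw [(support_card (hn w hw)).1, Finset.card_pair hij]
      have := e ▸ Finset.mem_filter.2 (⟨Finset.mem_univ k, hk⟩ : k ∈ Finset.univ ∧ w k ≠ 0)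
      simpa using this
    have hbc : b ≠ c := by
      rintro rfl
      obtain ⟨z, -, hu⟩ := meet (hn _ hc₁) (hn _ hc₂) (hin _ hc₁ _ hc₂ (Ne.symm h21))
      exact hab ((hu a ha1 ha2).trans (hu b hb1 hc2).symm)
    have hmeet : ∀ w ∈ V, c₄ ≠ w → ∀ i j, i ≠ j → w i ≠ 0 → w j ≠ 0 →
        (c₄ i = 0 ↔ c₄ j ≠ 0) := by
      intro w hw hne i j hij hi hj
      obtain ⟨z, hz, hu⟩ := meet (hn _ hc₄) (hn _ hw) (hin _ hc₄ _ hw hne)
      have hz4 : c₄ z ≠ 0 := fun e => by rw [e, zero_mul] at hz; exact zero_ne_one hz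
      have hzw : w z ≠ 0 := fun e => by rw [e, mul_zero] at hz; exact zero_ne_one hz
      rcases hsupp w hw i j hij hi hj z hzw with rfl | rfl
      · exact ⟨fun e => absurd e hz4, fun e => absurd (hu j e hj) (Ne.symm hij)⟩
      · exact ⟨fun _ => hz4, fun _ => by_contra fun e => hij (hu i e hi)⟩
    have e1 := hmeet c₁ hc₁ h4'.1 a b hab ha1 hb1
    have e2 := hmeet c₂ hc₂ h4'.2.1 a c hac ha2 hc2
    have e3 := hmeet c₃ hc₃ h4'.2.2 b c hbc hb3 hc3
    tauto
  refine ⟨a, c₁ a, (support_card (hn _ hc₁)).2 a ha1, fun c hc => ?_⟩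
  by_cases e : c = c₁
  · rw [e]
  obtain ⟨z, hz, hu⟩ := meet (hn _ hc) (hn _ hc₁) (hin _ hc _ hc₁ e)
  rw [← hu a (all c hc) ha1] at hz
  rcases Int.eq_one_or_neg_one_of_mul_eq_one ((support_card (hn _ hc₁)).2 a ha1) with f | f <;>
    rw [f] at hz ⊢ <;> omega

end Cfsg.Agent.SmithTyrer
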