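import Cfsg.Agent.Lib.SmithTyrer.Local
import Cfsg.Agent.Lib.SmithTyrer.Star
import Cfsg.Agent.Lib.Char.GlaubermanMod
import Cfsg.Agent.Lib.Blocks.SecondMain
import Mathlib.GroupTheory.FiniteAbelian.Duality

/-!
A character other than the principal one which is a constant sign on the elements of non-trivial
`p`-part.
-/

set_option autoImplicit false
set_option linter.unusedSectionVars false
set_option linter.style.haveILetI false

namespace Cfsg.Agent.SmithTyrer

open Cfsg Cfsg.Agent.Char Cfsg.Agent.Blocks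
open scoped ComplexConjugate

universe u

variable {G : Type u} [Group G] [Fintype G] {p : ℕ} [hp : Fact p.Prime] {P : Sylow p G} {n : G}

open scoped Classical in
/-- The mean of a function of the `p`-part. -/
theorem mean_pp (h : Inverted P n) (φ : G → ℂ) (hφ : IsClassFunction G φ) :
    (Nat.card G : ℂ)⁻¹ * ∑ g : G, φ (pp p g) =
      (1 / 2) * (φ 1 + (Nat.card (P : Subgroup G) : ℂ)⁻¹ * ∑ x : (P : Subgroup G), φ x) := by
  have hG : (Nat.card G : ℂ) ≠ 0 := Nat.cast_ne_zero.2 Nat.card_pos.ne'
  have hq : (Nat.card (P : Subgroup G) : ℂ) ≠ 0 := Nat.cast_ne_zero.2 Nat.card_pos.ne'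
  have hP : ∑ x : (P : Subgroup G), φ x =
      φ 1 + ∑ x ∈ Finset.univ.filter (fun x : G => x ∈ (P : Subgroup G) ∧ x ≠ 1), φ x := by
    rw [← Finset.sum_subtype (Finset.univ.filter fun x : G => x ∈ (P : Subgroup G)) (by simp) φ,
      ← Finset.add_sum_erase _ _ (show (1 : G) ∈ Finset.univ.filter fun x : G => x ∈ (P : Subgroup G) by simp)]
    congr 1
    refine Finset.sum_congr ?_ fun _ _ => rfl
    ext x
    simp [and_comm]
  rw [← Finset.sum_filter_add_sum_filter_not Finset.univ (fun g : G => pp p g = 1),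
    sum_singular_pp h φ hφ, Finset.sum_congr rfl (g := fun _ => φ 1) fun g hg => by
      rw [(Finset.mem_filter.1 hg).2],
    Finset.sum_const, nsmul_eq_mul, card_regular h, hP]
  field_simp
  ring

open scoped Classical in
/-- The sign character. -/
theorem exists_sign (h : Inverted P n) (hq : 9 ≤ Nat.card (P : Subgroup G)) :
    ∃ (χ : IrrCharacter G) (σ : ℤ), σ * σ = 1 ∧ χ ≠ principal G ∧
      ∀ g : G, pp p g ≠ 1 → (χ : G → ℂ) g = (σ : ℂ) := by
  obtain ⟨M, hM⟩ := Cfsg.Agent.GlaubermanMod.exists_isPModular p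
  haveI : M.IsPrime := hM.2.1.isPrime
  set q := Nat.card (P : Subgroup G) with hqdef
  have hqC : (q : ℂ) ≠ 0 := Nat.cast_ne_zero.2 Nat.card_pos.ne'
  have hG : (Nat.card G : ℂ) ≠ 0 := Nat.cast_ne_zero.2 Nat.card_pos.ne'
  letI : CommGroup (P : Subgroup G) :=
    { (inferInstance : Group (P : Subgroup G)) with mul_comm := h.comm.is_comm.comm }
  haveI : Fintype ((P : Subgroup G) →* ℂˣ) := Fintype.ofFinite _
  let val : ((P : Subgroup G) →* ℂˣ) → ↥(P : Subgroup G) → ℂ := fun l x => ((l x : ℂˣ) : ℂ)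
  have hdual : ∀ x : (P : Subgroup G), ∑ l, val l x = if x = 1 then (q : ℂ) else 0 := by
    intro x
    split_ifs with hx
    · rw [Finset.sum_congr rfl fun l _ => show val l x = 1 by simp [val, hx], Finset.sum_const,
        nsmul_eq_mul, mul_one, Finset.card_univ, ← Nat.card_eq_fintype_card,
        CommGroup.card_monoidHom_of_hasEnoughRootsOfUnity]
    · obtain ⟨l₀, hl₀⟩ := CommGroup.exists_apply_ne_one_of_hasEnoughRootsOfUnity
        (P : Subgroup G) ℂ hx
      have e : val l₀ x * ∑ l, val l x = ∑ l, val l x := by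
        rw [Finset.mul_sum]
        exact Fintype.sum_equiv (Equiv.mulLeft l₀) _ _ fun l => by simp [val]
      by_contra hne
      exact hl₀ (Units.ext ((mul_eq_right₀ hne).1 e))
  have hsum : ∀ l, ∑ x, val l x = if l = 1 then (q : ℂ) else 0 := by
    intro l
    split_ifs with hl
    · subst hl
      simp [val, hqdef, Nat.card_eq_fintype_card]
    · obtain ⟨x₀, hx₀⟩ : ∃ x, l x ≠ 1 := by
        by_contra hc; push Not at hc; exact hl (MonoidHom.ext hc)
      have e : val l x₀ * ∑ x, val l x = ∑ x, val l x := by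
        rw [Finset.mul_sum]
        exact Fintype.sum_equiv (Equiv.mulLeft x₀) _ _ fun x => by simp [val]
      by_contra hne
      exact hx₀ (Units.ext ((mul_eq_right₀ hne).1 e))
  have hconj : ∀ l x, conj (val l x) = val l⁻¹ x := by
    intro l x
    have h1 : (val l x) ^ q = 1 := by
      show ((l x : ℂˣ) : ℂ) ^ q = 1
      rw [← Units.val_pow_eq_pow_val, ← map_pow, hqdef, pow_card_eq_one', map_one, Units.val_one]
    rw [← Complex.inv_eq_conj (norm_eq_one_of_pow Nat.card_pos.ne' h1)]
    simp [val]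
  have hinvv : ∀ l x, val l⁻¹ x = val l x⁻¹ := fun l x => by simp [val]
  -- the sectional functions
  have hN : ∀ l, ∃ θ : G → ℂ, IsGeneralizedCharacter G θ ∧ (∀ g, θ g = θ (pp p g)) ∧
      ∀ x : (P : Subgroup G), θ (x : G) = val l x + val l⁻¹ x := fun l => by
    refine exists_sectional P (fun x => val l x + val l⁻¹ x) (fun x y hxy => ?_) ?_
    · obtain ⟨g, hg⟩ := isConj_iff.1 hxy
      rcases h.fusion x.2 (g := g) (by rw [hg]; exact y.2) with e | e <;> rw [hg] at e
      · rw [show y = x from Subtype.ext e]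
      · rw [show y = x⁻¹ from Subtype.ext e, hinvv, hinvv, inv_inv, add_comm]
    · exact IsGeneralizedCharacter.add
        (IsGeneralizedCharacter.of_isCharacter (IsIrrCharacter.isCharacter (isIrrCharacter_linear l)))
        (IsGeneralizedCharacter.of_isCharacter (IsIrrCharacter.isCharacter (isIrrCharacter_linear l⁻¹)))
  choose N hNg hNpp hNP using hN
  have hNclass : ∀ l, IsClassFunction G (N l) := fun l => IsGeneralizedCharacter.isClassFunction (hNg l)
  let v : ((P : Subgroup G) →* ℂˣ) → G → ℂ := fun l => N l - (principal G : G → ℂ)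
  have hvg : ∀ l, IsGeneralizedCharacter G (v l) := fun l => IsGeneralizedCharacter.sub (hNg l)
    (IsGeneralizedCharacter.of_isCharacter (IsIrrCharacter.isCharacter (principal G).2))
  have hN1 : ∀ l, N l 1 = 2 := fun l => by
    have := hNP l 1
    simp only [OneMemClass.coe_one, val, map_one, Units.val_one] at this
    rw [this]; norm_num
  have hinner : ∀ l m, classInner (N l) (N m) =
      2 + (if l * m⁻¹ = 1 then 1 else 0) + (if l * m = 1 then 1 else 0) := by
    intro l m
    have e := mean_pp h (fun g => N l g * conj (N m g)) (fun g c => by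
      show N l (c * g * c⁻¹) * conj (N m (c * g * c⁻¹)) = N l g * conj (N m g)
      rw [hNclass l g c, hNclass m g c])
    simp only [← hNpp] at e
    rw [classInner, e, hN1, hN1, map_ofNat, Finset.sum_congr rfl
      (g := fun x => (val (l * m⁻¹) x + val (l * m) x) + (val (l⁻¹ * m⁻¹) x + val (l⁻¹ * m) x))
      fun x _ => by
        rw [hNP, hNP, map_add, hconj, hconj]
        simp only [val, MonoidHom.mul_apply, MonoidHom.inv_apply, inv_inv, Units.val_mul]
        ring,
      Finset.sum_add_distrib, Finset.sum_add_distrib, Finset.sum_add_distrib, hsum, hsum, hsum, hsum]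
    have e1 : (l⁻¹ * m⁻¹ = 1) ↔ (l * m = 1) := by
      simp only [MonoidHom.ext_iff, MonoidHom.mul_apply, MonoidHom.inv_apply, MonoidHom.one_apply]
      exact forall_congr' fun x => by rw [← mul_inv, inv_eq_one]
    have e2 : (l⁻¹ * m = 1) ↔ (l * m⁻¹ = 1) := by
      simp only [MonoidHom.ext_iff, MonoidHom.mul_apply, MonoidHom.inv_apply, MonoidHom.one_apply]
      exact forall_congr' fun x => by rw [inv_mul_eq_one, mul_inv_eq_one]
    simp only [e1, e2]
    split_ifs <;> field_simp <;> ring
  have hNone : ∀ l, l ≠ 1 → classInner (N l) (principal G : G → ℂ) = 1 := by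
    intro l hl
    have e := mean_pp h (N l) (hNclass l)
    simp only [← hNpp] at e
    rw [classInner]
    simp only [principal, map_one, mul_one]
    rw [e, hN1, Finset.sum_congr rfl fun x _ => hNP l x, Finset.sum_add_distrib, hsum, hsum, if_neg hl,
      if_neg fun e => hl (MonoidHom.ext fun x => inv_eq_one.1 (DFunLike.congr_fun e x))]
    ring
  have hpp : classInner (principal G : G → ℂ) (principal G : G → ℂ) = 1 :=
    classInner_self_irr (principal G).2
  have hvv : ∀ l m, l ≠ 1 → m ≠ 1 → classInner (v l) (v m) =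
      1 + (if l * m⁻¹ = 1 then 1 else 0) + (if l * m = 1 then 1 else 0) := by
    intro l m hl hm
    simp only [v, classInner_sub_left, classInner_sub_right, hinner, hNone l hl, hpp]
    rw [← classInner_conj_symm (N m) _, hNone m hm, map_one]
    ring
  choose c hc hcoef using fun l => IsGeneralizedCharacter.exists_coeff (hvg l)
  have hcc : ∀ l m, ((∑ i, c l i * c m i : ℤ) : ℂ) = classInner (v l) (v m) := by
    intro l m
    rw [hc l, hc m, classInner_combination₂]
    simp
  -- distinct vectors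
  have hodd : ∀ l : (P : Subgroup G) →* ℂˣ, l ≠ 1 → l * l ≠ 1 := by
    intro l hl e
    refine hl (MonoidHom.ext fun x => ?_)
    have h1 : (l x) ^ 2 = 1 := by
      have := DFunLike.congr_fun e x
      simpa [pow_two] using this
    have h2 : (l x) ^ q = 1 := by rw [← map_pow, hqdef, pow_card_eq_one', map_one]
    have h3 : Nat.Coprime 2 q := by
      obtain ⟨k, hk⟩ := IsPGroup.iff_card.1 P.isPGroup'
      rw [hqdef, hk]
      exact Nat.Coprime.pow_right _ ((Nat.coprime_primes Nat.prime_two hp.out).2 (Ne.symm h.odd))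
    simpa [h3.gcd_eq_one] using pow_gcd_eq_one.2 ⟨h1, h2⟩
  set L := (Finset.univ : Finset ((P : Subgroup G) →* ℂˣ)).erase 1 with hL
  have hfib : ∀ l ∈ L, ∀ m ∈ L, c l = c m → m = l ∨ m = l⁻¹ := by
    intro l hl m hm e
    have h1 := hcc l m
    rw [← e, hcc l l, hvv l l (Finset.ne_of_mem_erase hl) (Finset.ne_of_mem_erase hl),
      hvv l m (Finset.ne_of_mem_erase hl) (Finset.ne_of_mem_erase hm), if_pos (MonoidHom.ext fun x => mul_inv_cancel (l x)),
      if_neg (hodd l (Finset.ne_of_mem_erase hl))] at h1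
    by_contra hne
    push Not at hne
    rw [if_neg fun e : l * m⁻¹ = 1 => hne.1
        (MonoidHom.ext fun x => (mul_inv_eq_one.1 (DFunLike.congr_fun e x)).symm),
      if_neg fun e : l * m = 1 => hne.2
        (MonoidHom.ext fun x => eq_inv_of_mul_eq_one_right (DFunLike.congr_fun e x))] at h1
    norm_num at h1
  set V := L.image c with hV
  have hV4 : 4 ≤ V.card := by
    have h1 : L.card ≤ 2 * V.card := Finset.card_le_mul_card_image (f := c) L 2 fun a ha => by
      obtain ⟨l, hl, rfl⟩ := Finset.mem_image.1 ha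
      refine (Finset.card_le_card (t := {l, l⁻¹}) fun m hm => ?_).trans Finset.card_le_two
      obtain ⟨hmL, hm'⟩ := Finset.mem_filter.1 hm
      rcases hfib l hl m hmL hm'.symm with e | e <;> simp [e]
    have h2 : L.card + 1 = q := by
      rw [hL, Finset.card_erase_add_one (Finset.mem_univ _), Finset.card_univ,
        ← Nat.card_eq_fintype_card, CommGroup.card_monoidHom_of_hasEnoughRootsOfUnity]
    omega
  obtain ⟨a, σ, hσ, ha⟩ := exists_center V hV4 (fun w hw => by
      obtain ⟨l, hl, rfl⟩ := Finset.mem_image.1 hw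
      have h1 := hcc l l
      rw [hvv l l (Finset.ne_of_mem_erase hl) (Finset.ne_of_mem_erase hl), if_pos (MonoidHom.ext fun x => mul_inv_cancel (l x)),
        if_neg (hodd l (Finset.ne_of_mem_erase hl))] at h1
      norm_num at h1
      exact_mod_cast h1) (fun w hw w' hw' hne => by
      obtain ⟨l, hl, rfl⟩ := Finset.mem_image.1 hw
      obtain ⟨m, hm, rfl⟩ := Finset.mem_image.1 hw'
      have h1 := hcc l m
      rw [hvv l m (Finset.ne_of_mem_erase hl) (Finset.ne_of_mem_erase hm)] at h1
      by_cases e1 : l * m⁻¹ = 1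
      · exact absurd (congrArg c (MonoidHom.ext fun x => mul_inv_eq_one.1 (DFunLike.congr_fun e1 x))) hne
      by_cases e2 : l * m = 1
      · exfalso
        refine hne ?_
        have : v l = v m := by
          have hm' : m = l⁻¹ := MonoidHom.ext fun x => eq_inv_of_mul_eq_one_right (DFunLike.congr_fun e2 x)
          have : N l = N m := funext fun g => by
            obtain ⟨k, hk⟩ := exists_conj_mem (P := P) (pp_elt (p := p) g)
            rw [hNpp l g, hNpp m g, ← hNclass l (pp p g) k, ← hNclass m (pp p g) k,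
              hNP l ⟨_, hk⟩, hNP m ⟨_, hk⟩, hm', hinvv l⁻¹, hinvv l ⟨_, hk⟩⁻¹, inv_inv, add_comm]
          simp only [v, this]
        funext i
        have e3 := hcoef l i
        rw [this, hcoef m i] at e3
        exact_mod_cast e3.symm
      rw [if_neg e1, if_neg e2, add_zero, add_zero] at h1
      exact_mod_cast h1)
  have hva : ∀ l, l ≠ 1 → classInner (v l) (a : G → ℂ) = σ := fun l hl => by
    rw [hcoef, ha _ (Finset.mem_image_of_mem c (Finset.mem_erase.2 ⟨hl, Finset.mem_univ _⟩))]
  have hσ0 : (σ : ℂ) ≠ 0 := Int.cast_ne_zero.2 fun e => by rw [e] at hσ; simp at hσ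
  obtain ⟨l₀, hl₀'⟩ := Finset.card_pos.1 (show 0 < L.card by
    have := Finset.card_image_le (f := c) (s := L); rw [← hV] at this; omega)
  have hl₀ : l₀ ≠ 1 := Finset.ne_of_mem_erase hl₀'
  have ha1 : a ≠ principal G := fun e => hσ0 (by
    rw [← hva l₀ hl₀, e]
    simp only [v, classInner_sub_left, hNone l₀ hl₀, hpp, sub_self])
  have horth : classInner (principal G : G → ℂ) (a : G → ℂ) = 0 :=
    classInner_irr_of_ne (principal G).2 a.2 fun e => ha1 (Subtype.ext e.symm)
  have hNa : ∀ l, l ≠ 1 → classInner (N l) (a : G → ℂ) = σ := fun l hl => by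
    have := hva l hl
    simp only [v, classInner_sub_left, horth, sub_zero] at this
    exact this
  have haB : a ∈ principalBlock M G := by
    by_contra hB
    refine hσ0 ?_
    rw [← hNa l₀ hl₀, classInner, sum_sections (p := p)]
    refine mul_eq_zero_of_right _ (Finset.sum_eq_zero fun y hy => ?_)
    rw [Finset.sum_congr rfl (g := fun s => N l₀ y * conj ((a : G → ℂ) (y * s))) fun s hs => by
      rw [hNpp l₀ (y * s), pp_mul (mem_pElts.1 hy) (mem_regSet.1 hs).1.symm (mem_regSet.1 hs).2],
      ← Finset.mul_sum, ← map_sum, sum_section_eq_zero hM hB (mem_pElts.1 hy), map_zero, mul_zero]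
  have haclass : IsClassFunction G (a : G → ℂ) := IsCharacter.isClassFunction (irr_isCharacter a)
  have hconst : ∀ x ∈ (P : Subgroup G), x ≠ 1 → ∀ s ∈ regSet p x,
      (a : G → ℂ) (x * s) = (a : G → ℂ) x := by
    intro x hx hx1 s hs
    haveI : Fintype (Subgroup.centralizer ({x} : Set G)) := Fintype.ofFinite _
    obtain ⟨K, hK, hKp, -, hreg⟩ := h.complement hx hx1
    haveI := hK
    exact irr_section_of_kernel hM (pElt_of_mem hx) rfl haB K hKp
      (v := ⟨s, Subgroup.mem_centralizer_singleton_iff.2 (mem_regSet.1 hs).1.eq⟩)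
      (hreg _ (by rw [← Subgroup.orderOf_coe]; exact (mem_regSet.1 hs).2))
  set A := (Nat.card G : ℂ)⁻¹ *
    ∑ g ∈ Finset.univ.filter (fun g : G => pp p g = 1), conj ((a : G → ℂ) g) with hA
  let S' := Finset.univ.filter fun x : (P : Subgroup G) => x ≠ 1
  have hsplit : ∀ (φ : G → ℂ), IsClassFunction G φ → (∀ g, φ g = φ (pp p g)) →
      classInner φ (a : G → ℂ) = φ 1 * A +
        1 / (2 * (q : ℂ)) * ∑ x ∈ S', φ x * conj ((a : G → ℂ) (x : G)) := by
    intro φ hφ hφpp
    rw [classInner, ← Finset.sum_filter_add_sum_filter_not Finset.univ (fun g : G => pp p g = 1),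
      sum_singular h _ (fun g d => by
        show φ (d * g * d⁻¹) * conj ((a : G → ℂ) (d * g * d⁻¹)) = φ g * conj ((a : G → ℂ) g)
        rw [hφ g d, haclass g d]),
      Finset.sum_congr rfl (g := fun g => φ 1 * conj ((a : G → ℂ) g)) fun g hg => by
        rw [hφpp g, (Finset.mem_filter.1 hg).2],
      ← Finset.mul_sum, mul_add, hA]
    congr 1
    · ring
    rw [Finset.mul_sum, Finset.mul_sum, Finset.sum_subtype (p := fun x : (P : Subgroup G) => x ≠ 1) S'
      (by simp [S']) _]
    refine (Finset.sum_bij' (fun (x : G) hx => ((⟨⟨x, (Finset.mem_filter.1 hx).2.1⟩, fun e =>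
        (Finset.mem_filter.1 hx).2.2 (congrArg Subtype.val e)⟩ : {y : (P : Subgroup G) // y ≠ 1})))
      (fun y _ => (y.1 : G)) (fun _ _ => Finset.mem_univ _) (fun y _ => Finset.mem_filter.2
        ⟨Finset.mem_univ _, y.1.2, fun e => y.2 (Subtype.ext e)⟩) (fun _ _ => rfl) (fun _ _ => rfl)
      fun x hx => ?_)
    obtain ⟨-, hxP, hx1⟩ := Finset.mem_filter.1 hx
    rw [Finset.sum_congr rfl (g := fun _ => φ x * conj ((a : G → ℂ) x)) fun s hs => by
      rw [hφpp (x * s), pp_mul (pElt_of_mem hxP) (mem_regSet.1 hs).1.symm (mem_regSet.1 hs).2,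
        hconst x hxP hx1 s hs], Finset.sum_const, nsmul_eq_mul, ← h.card_regSet hxP hx1]
    have h1 : ((regSet p x).card : ℂ) ≠ 0 := by
      refine Nat.cast_ne_zero.2 (Finset.card_ne_zero.2 ⟨1, mem_regSet.2 ⟨Commute.one_left x, ?_⟩⟩)
      rw [orderOf_one]; exact hp.out.not_dvd_one
    push_cast
    field_simp
    rw [hqdef]
    ring
  let g₀ : ↥(P : Subgroup G) → ℂ := fun x => conj ((a : G → ℂ) (x : G))
  have hg₀ : ∀ x : (P : Subgroup G), g₀ x⁻¹ = g₀ x := fun x => by
    show conj ((a : G → ℂ) ((x : G)⁻¹)) = _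
    rw [← h.inv x x.2, haclass]
  have hG0 : ∑ x ∈ S', g₀ x = -(2 * (q : ℂ) * A) := by
    have e := hsplit (principal G : G → ℂ) (fun _ _ => rfl) fun _ => rfl
    rw [horth] at e
    simp only [principal, one_mul] at e
    field_simp at e
    linear_combination -e
  have hκ : ∀ l : (P : Subgroup G) →* ℂˣ, l ≠ 1 →
      ∑ x ∈ S', val l x * g₀ x = (q : ℂ) * ((σ : ℂ) - 2 * A) := by
    intro l hl
    have e := hsplit (N l) (hNclass l) (hNpp l)
    rw [hNa l hl, hN1, Finset.sum_congr rfl (g := fun x => val l x * g₀ x + val l⁻¹ x * g₀ x)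
      fun x _ => by rw [hNP]; ring, Finset.sum_add_distrib] at e
    have e2 : ∑ x ∈ S', val l⁻¹ x * g₀ x = ∑ x ∈ S', val l x * g₀ x :=
      Finset.sum_bij' (fun x _ => x⁻¹) (fun x _ => x⁻¹) (fun x hx => by simpa [S'] using hx)
        (fun x hx => by simpa [S'] using hx) (fun x _ => inv_inv x) (fun x _ => inv_inv x)
        fun x _ => by rw [hinvv, hg₀]
    rw [e2] at e
    field_simp at e
    linear_combination -(1 / 2) * e
  refine ⟨a, -σ, by rw [neg_mul_neg, hσ], ha1, fun g hg => ?_⟩
  have hval : ∀ x : (P : Subgroup G), x ≠ 1 → g₀ x = -(σ : ℂ) := by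
    intro x hx
    have e : ∑ l : (P : Subgroup G) →* ℂˣ, val l x⁻¹ * ∑ y ∈ S', val l y * g₀ y = (q : ℂ) * g₀ x := by
      simp only [Finset.mul_sum]
      rw [Finset.sum_comm, Finset.sum_eq_single x]
      · rw [Finset.sum_congr rfl (g := fun _ => g₀ x) fun l _ => by simp [val],
          Finset.sum_const, nsmul_eq_mul, Finset.card_univ, ← Nat.card_eq_fintype_card,
          CommGroup.card_monoidHom_of_hasEnoughRootsOfUnity]
      · intro y _ hy
        rw [Finset.sum_congr rfl (g := fun l => val l (x⁻¹ * y) * g₀ y) fun l _ => by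
          simp [val, mul_assoc], ← Finset.sum_mul, hdual, if_neg fun e => hy (inv_mul_eq_one.1 e).symm,
          zero_mul]
      · intro hx'
        exact absurd (by simpa [S'] using hx) hx'
    rw [← Finset.add_sum_erase _ _ (Finset.mem_univ (1 : (P : Subgroup G) →* ℂˣ))] at e
    have e1 : ∑ l ∈ Finset.univ.erase (1 : (P : Subgroup G) →* ℂˣ), val l x⁻¹ = -1 := by
      have := hdual x⁻¹
      rw [if_neg (inv_ne_one.2 hx), ← Finset.add_sum_erase _ _ (Finset.mem_univ (1 : (P : Subgroup G) →* ℂˣ))] at this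
      have h2 : val 1 x⁻¹ = 1 := by simp [val]
      linear_combination this - h2
    rw [Finset.sum_congr rfl (g := fun l => val l x⁻¹ * ((q : ℂ) * ((σ : ℂ) - 2 * A))) fun l hl => by
      rw [hκ l (Finset.ne_of_mem_erase hl)], ← Finset.sum_mul, e1] at e
    simp only [val, MonoidHom.one_apply, Units.val_one, one_mul] at e
    rw [hG0] at e
    exact mul_left_cancel₀ hqC (by linear_combination -e)
  obtain ⟨k, hk⟩ := exists_conj_mem (P := P) (pp_elt (p := p) g)
  have hk1 : k * pp p g * k⁻¹ ≠ 1 := fun e => hg (conj_eq_one_iff.1 e)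
  obtain ⟨s, hs, hcm, -, hs'⟩ := pp_spec (p := p) g
  have hsr : k * s * k⁻¹ ∈ regSet p (k * pp p g * k⁻¹) := by
    refine mem_regSet.2 ⟨?_, ?_⟩
    · have := hcm.symm.map (MulAut.conj k).toMonoidHom
      simpa [MulAut.conj_apply] using this
    · rwa [show k * s * k⁻¹ = MulAut.conj k s by simp [MulAut.conj_apply], MulEquiv.orderOf_eq]
  have e1 : (a : G → ℂ) g = (a : G → ℂ) (k * pp p g * k⁻¹) := by
    conv_lhs => rw [← hs, ← haclass _ k, show k * (pp p g * s) * k⁻¹ = k * pp p g * k⁻¹ * (k * s * k⁻¹) by group]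
    exact hconst _ hk hk1 _ hsr
  have e2 : conj ((a : G → ℂ) (k * pp p g * k⁻¹)) = -(σ : ℂ) :=
    hval ⟨_, hk⟩ fun e => hk1 (congrArg Subtype.val e)
  rw [e1, ← Complex.conj_conj ((a : G → ℂ) _), e2]
  simp

end Cfsg.Agent.SmithTyrer
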