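import Cfsg.Agent.Lib.SmithTyrer.Local
import Cfsg.Agent.Lib.SmithTyrer.Sign
import Cfsg.Agent.Lib.Char.DegreeCenter
import Cfsg.Agent.Lib.Blocks.SmallDegrees

/-!
Virtual characters of a central extension by a group of order `p` with non-abelian Sylow subgroup:
the extension of a fully ramified character, and the twist of a projective virtual character.
-/

set_option autoImplicit false
set_option linter.unusedSectionVars false
set_option linter.style.haveILetI false

namespace Cfsg.Agent.SmithTyrer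

open Cfsg Cfsg.Agent.Char Cfsg.Agent.Blocks
open scoped ComplexConjugate

universe u

/-- A central extension by a group of order `p`. -/
structure Cover {G H : Type u} [Group G] [Group H] (p : ℕ) (π : H →* G) : Prop where
  surj : Function.Surjective π
  card_ker : Nat.card π.ker = p
  central : π.ker ≤ Subgroup.center H

/-- A character of the kernel extended by zero. -/
noncomputable def kfun {G H : Type u} [Group G] [Group H] {π : H →* G} (ω : π.ker →* ℂˣ) : H → ℂ :=
  Cfsg.extendByZero π.ker fun z => ((ω z : ℂˣ) : ℂ)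

variable {G H : Type u} [Group G] [Fintype G] [Group H] [Fintype H] {p : ℕ} [hp : Fact p.Prime]
  {π : H →* G} (hc : Cover p π)

include hc

namespace Cover

theorem pow_ker {z : H} (hz : z ∈ π.ker) : z ^ p = 1 := by
  have := pow_card_eq_one' (x := (⟨z, hz⟩ : π.ker))
  rw [hc.card_ker] at this
  exact congrArg Subtype.val this

theorem pp_mem_iff (g : H) : pp p g ∈ π.ker ↔ pp p (π g) = 1 := by
  rw [MonoidHom.mem_ker, pp_map]

theorem exists_omega : ∃ ω : π.ker →* ℂˣ, Function.Injective ω := by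
  haveI : NeZero p := ⟨hp.out.ne_zero⟩
  obtain ⟨ζ, hζ⟩ : ∃ ζ : ℂ, IsPrimitiveRoot ζ p := ⟨_, Complex.isPrimitiveRoot_exp p hp.out.ne_zero⟩
  have hu : IsPrimitiveRoot (hζ.isUnit hp.out.ne_zero).unit p := IsPrimitiveRoot.coe_units_iff.1 hζ
  have hcard : Nat.card (Subgroup.zpowers (hζ.isUnit hp.out.ne_zero).unit) = p := by
    rw [Nat.card_zpowers, ← hu.eq_orderOf]
  exact ⟨(Subgroup.subtype _).comp (mulEquivOfPrimeCardEq hc.card_ker hcard).toMonoidHom,
    Subtype.val_injective.comp (MulEquiv.injective _)⟩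

variable (ω : π.ker →* ℂˣ)

theorem kfun_coe (z : π.ker) : kfun ω (z : H) = (ω z : ℂˣ) := extendByZero_coe _ _ z

theorem kfun_one : kfun ω (1 : H) = 1 := by
  have := hc.kfun_coe ω 1
  simpa using this

theorem kfun_mul_conj {g : H} (hg : g ∈ π.ker) : kfun ω g * conj (kfun ω g) = 1 := by
  rw [hc.kfun_coe ω ⟨g, hg⟩]
  have h1 : ((ω ⟨g, hg⟩ : ℂˣ) : ℂ) ^ p = 1 := by
    rw [← Units.val_pow_eq_pow_val, ← map_pow, show (⟨g, hg⟩ : π.ker) ^ p = 1 from
      Subtype.ext (hc.pow_ker hg), map_one, Units.val_one]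
  rw [Complex.mul_conj, Complex.normSq_eq_norm_sq, norm_eq_one_of_pow hp.out.ne_zero h1]
  simp

theorem kfun_conj_inv (k g : H) : kfun ω (k * g * k⁻¹) = kfun ω g := by
  haveI : π.ker.Normal := inferInstance
  by_cases hg : g ∈ π.ker
  · rw [Subgroup.mem_center_iff.1 (hc.central hg) k, mul_inv_cancel_right]
  · rw [kfun, extendByZero_not_mem _ _ hg, extendByZero_not_mem _ _ fun e => hg ?_]
    exact (MulAut.conjNormal_symm_mem e)
where
  MulAut.conjNormal_symm_mem {k g : H} [hn : π.ker.Normal] (e : k * g * k⁻¹ ∈ π.ker) : g ∈ π.ker := by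
    have := hn.conj_mem _ e k⁻¹
    rwa [show k⁻¹ * (k * g * k⁻¹) * k⁻¹⁻¹ = g by group] at this

/-- A class function vanishing on the elements of non-trivial `p`-part, twisted. -/
theorem isGeneralized_twist {Θ : G → ℂ} (hΘ : IsGeneralizedCharacter G Θ)
    (hvan : ∀ g, pp p g ≠ 1 → Θ g = 0) :
    IsGeneralizedCharacter H fun g => kfun ω (pp p g) * Θ (π g) := by
  classical
  refine isGeneralizedCharacter_of_elementary (fun g k => ?_) fun E r hr hE => ?_
  · show kfun ω (pp p (k * g * k⁻¹)) * Θ (π (k * g * k⁻¹)) = kfun ω (pp p g) * Θ (π g)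
    rw [pp_conj, hc.kfun_conj_inv, map_mul, map_mul, map_inv,
      IsGeneralizedCharacter.isClassFunction hΘ]
  obtain ⟨ρ, hρ, hcomm⟩ := exists_pp_hom (p := p) hr E hE
  haveI : Fintype E := Fintype.ofFinite E
  have hρE : ∀ e : E, ρ e ∈ E := fun e => hρ e ▸ pp_mem E e.2
  let ψ : E →* E := MonoidHom.mk' (fun e => e * (⟨ρ e, hρE e⟩ : E)⁻¹) fun a b => by
    refine Subtype.ext ?_
    simp only [Subgroup.coe_mul, Subgroup.coe_inv, map_mul]
    have h1 := hcomm a b
    rw [← hρ a, ← hρ b] at h1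
    calc (a : H) * b * (ρ a * ρ b)⁻¹ = (a : H) * ((b : H) * (ρ b)⁻¹ * (ρ a)⁻¹) := by group
      _ = (a : H) * ((ρ a)⁻¹ * ((b : H) * (ρ b)⁻¹)) := by rw [h1.symm.inv_right.eq]
      _ = _ := by group
  let B : Subgroup E := π.ker.comap ρ
  have hB : ∀ e : E, e ∈ B ↔ pp p (π e) = 1 := fun e => by
    show ρ e ∈ π.ker ↔ _
    rw [hρ, hc.pp_mem_iff]
  haveI : Fintype B := Fintype.ofFinite B
  haveI : Fintype ψ.range := Fintype.ofFinite _
  have hψπ : ∀ e ∈ B, π (ψ e : E) = π e := fun e he => by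
    show π ((e : H) * (ρ e)⁻¹) = π e
    rw [map_mul, map_inv, (he : π (ρ e) = 1), inv_one, mul_one]
  have hψψ : ∀ e, pp p (ψ e : H) = 1 := fun e => by
    show pp p ((e : H) * (ρ e)⁻¹) = 1
    obtain ⟨s, hs, hcs, -, hs'⟩ := pp_spec (p := p) (e : H)
    rw [hρ, show (e : H) * (pp p (e : H))⁻¹ = s by
      rw [mul_inv_eq_iff_eq_mul, ← hcs.eq, hs]]
    rwa [pp_eq_one_iff]
  have hψB : ∀ e, ψ e ∈ B := fun e => (hB _).2 (by rw [pp_map, hψψ, map_one])
  set Φ : E → ℂ := fun e => Θ (π e) with hΦ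
  have hΦg : IsGeneralizedCharacter E Φ :=
    IsGeneralizedCharacter.comp hΘ (π.comp E.subtype)
  obtain ⟨m, hm, hmcoef⟩ := IsGeneralizedCharacter.exists_coeff
    (IsGeneralizedCharacter.restrict hΦg ψ.range)
  have hfac : ∀ b : B, Φ b = Φ (ψ b) := fun b => by
    show Θ (π (b : E)) = Θ (π (ψ b : E))
    rw [hψπ b b.2]
  -- the coefficients are divisible by the index
  have hdiv : ∀ θ : IrrCharacter ψ.range, ∃ j : ℤ, (m θ : ℂ) = (B.index : ℂ) * j := by
    intro θ
    obtain ⟨j, hj⟩ := IsGeneralizedCharacter.exists_classInner_int hΦg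
      (IsGeneralizedCharacter.of_isCharacter
        (IsCharacter.comp (IsIrrCharacter.isCharacter θ.2) ψ.rangeRestrict))
    refine ⟨j, ?_⟩
    let ψB : B →* ψ.range := ψ.rangeRestrict.comp B.subtype
    have hsurj : Function.Surjective ψB := by
      rintro ⟨y, e, rfl⟩
      refine ⟨⟨ψ e, hψB e⟩, Subtype.ext (Subtype.ext ?_)⟩
      show (ψ e : H) * (ρ (ψ e))⁻¹ = (ψ e : H)
      rw [hρ, hψψ, inv_one, mul_one]
    have hfib : ∀ f : ψ.range → ℂ, (Nat.card ψ.range : ℂ) * ∑ b : B, f (ψB b) =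
        (Nat.card B : ℂ) * ∑ y, f y := by
      intro f
      have hcard : Nat.card B = Nat.card ψ.range * Nat.card ψB.ker := by
        rw [← ψB.ker.index_mul_card, Subgroup.index_ker, MonoidHom.range_eq_top.2 hsurj,
          Subgroup.card_top]
      rw [← Finset.sum_fiberwise_of_maps_to (t := Finset.univ) (g := fun b => ψB b)
          (fun _ _ => Finset.mem_univ _), Finset.mul_sum, Finset.mul_sum]
      refine Finset.sum_congr rfl fun y _ => ?_
      rw [Finset.sum_congr rfl (g := fun _ => f y) fun b hb => by rw [(Finset.mem_filter.1 hb).2],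
        Finset.sum_const, nsmul_eq_mul, hcard]
      have : (Finset.univ.filter fun b : B => ψB b = y).card = Nat.card ψB.ker := by
        obtain ⟨b₀, rfl⟩ := hsurj y
        rw [← Nat.card_eq_finsetCard]
        refine Nat.card_congr
          { toFun := fun b => ⟨b₀⁻¹ * b.1, by
              rw [MonoidHom.mem_ker, map_mul, (Finset.mem_filter.1 b.2).2, map_inv, inv_mul_cancel]⟩
            invFun := fun k => ⟨b₀ * k.1, Finset.mem_filter.2 ⟨Finset.mem_univ _, by
              rw [map_mul, MonoidHom.mem_ker.1 k.2, mul_one]⟩⟩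
            left_inv := fun b => Subtype.ext (mul_inv_cancel_left _ _)
            right_inv := fun k => Subtype.ext (inv_mul_cancel_left _ _) }
      rw [this]
      push_cast
      ring
    have e1 : ∑ e : E, Φ e * conj ((θ : ψ.range → ℂ) (ψ.rangeRestrict e)) =
        ∑ b : B, Φ (ψB b : E) * conj ((θ : ψ.range → ℂ) (ψB b)) := by
      rw [← Finset.sum_filter_add_sum_filter_not Finset.univ (fun e : E => e ∈ B),
        Finset.sum_eq_zero (s := Finset.univ.filter fun e : E => ¬ e ∈ B) fun e he => by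
          rw [show Φ e = 0 from hvan _ fun h1 => (Finset.mem_filter.1 he).2 ((hB e).2 h1), zero_mul],
        add_zero, Finset.sum_subtype _ (fun e => by simp : ∀ e : E, e ∈ Finset.univ.filter (· ∈ B) ↔ e ∈ B)]
      exact Finset.sum_congr rfl fun b _ => by
        rw [hfac b]; rfl
    unfold Cfsg.classInner at hj
    rw [e1] at hj
    have e2 := hfib fun y => Φ (y : E) * conj ((θ : ψ.range → ℂ) y)
    have e3 := hmcoef θ
    unfold Cfsg.classInner at e3
    have h1 : (Nat.card ψ.range : ℂ) ≠ 0 := Nat.cast_ne_zero.2 Nat.card_pos.ne'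
    have h2 : (Nat.card E : ℂ) ≠ 0 := Nat.cast_ne_zero.2 Nat.card_pos.ne'
    have h3 : (Nat.card E : ℂ) = (B.index : ℂ) * (Nat.card B : ℂ) := by
      rw [← B.index_mul_card]; push_cast; ring
    rw [← e3]
    field_simp at hj ⊢
    refine mul_left_cancel₀ (Nat.cast_ne_zero.2 (Nat.card_pos (α := B)).ne' : (Nat.card B : ℂ) ≠ 0) ?_
    rw [h3] at hj
    linear_combination (Nat.card ψ.range : ℂ) * hj - e2
  choose j hj using hdiv
  let g : B → ℂ := fun b => ∑ θ : IrrCharacter ψ.range, (j θ : ℂ) *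
    (θ : ψ.range → ℂ) (ψ.rangeRestrict (b : E))
  have hg : IsGeneralizedCharacter B g := by
    have h1 : g = ∑ θ : IrrCharacter ψ.range, (j θ : ℂ) •
        (fun b : B => (θ : ψ.range → ℂ) (ψ.rangeRestrict.comp B.subtype b)) := by
      funext b
      simp [g, Finset.sum_apply]
    rw [h1]
    exact isGeneralizedCharacter_sum _ fun θ _ => IsGeneralizedCharacter.int_smul
      (IsGeneralizedCharacter.of_isCharacter
        (IsCharacter.comp (IsIrrCharacter.isCharacter θ.2) _)) _
  have hgB : ∀ b : B, Φ b = (B.index : ℂ) * g b := by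
    intro b
    rw [hfac b]
    have := congrFun hm (ψ.rangeRestrict (b : E))
    rw [Finset.sum_apply] at this
    refine this.trans ?_
    rw [Finset.mul_sum]
    refine Finset.sum_congr rfl fun θ _ => ?_
    rw [Pi.smul_apply, smul_eq_mul, hj]
    ring
  -- the twisted function
  have hlin : IsGeneralizedCharacter B fun b : B => kfun ω (ρ b) := by
    let lin : B →* ℂˣ := ω.comp ((ρ.comp B.subtype).codRestrict π.ker fun b => b.2)
    have : (fun b : B => kfun ω (ρ b)) = fun b => ((lin b : ℂˣ) : ℂ) :=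
      funext fun b => hc.kfun_coe ω ⟨ρ b, b.2⟩
    rw [this]
    exact IsGeneralizedCharacter.of_isCharacter (IsIrrCharacter.isCharacter (isIrrCharacter_linear lin))
  have hclass : IsClassFunction E fun e : E => kfun ω (pp p (e : H)) * Θ (π e) := fun e k => by
    show kfun ω (pp p ((k * e * k⁻¹ : E) : H)) * Θ (π ((k * e * k⁻¹ : E) : H)) = _
    simp only [Subgroup.coe_mul, Subgroup.coe_inv]
    rw [pp_conj, hc.kfun_conj_inv, map_mul, map_mul, map_inv,
      IsGeneralizedCharacter.isClassFunction hΘ]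
  refine isGeneralizedCharacter_of_classInner hclass fun θ => ?_
  obtain ⟨z, hz⟩ := IsGeneralizedCharacter.exists_classInner_int
    (IsGeneralizedCharacter.mul hlin hg)
    (IsGeneralizedCharacter.restrict
      (IsGeneralizedCharacter.of_isCharacter (IsIrrCharacter.isCharacter θ.2)) B)
  refine ⟨z, ?_⟩
  rw [← hz]
  unfold Cfsg.classInner
  rw [← Finset.sum_filter_add_sum_filter_not Finset.univ (fun e : E => e ∈ B),
    Finset.sum_eq_zero (s := Finset.univ.filter fun e : E => ¬ e ∈ B) fun e he => by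
      show kfun ω (pp p (e : H)) * Θ (π e) * _ = 0
      rw [show Θ (π e) = 0 from hvan _ fun h1 => (Finset.mem_filter.1 he).2 ((hB e).2 h1), mul_zero,
        zero_mul],
    add_zero, Finset.sum_subtype _ (fun e => by simp : ∀ e : E, e ∈ Finset.univ.filter (· ∈ B) ↔ e ∈ B),
    ← B.index_mul_card]
  push_cast
  rw [mul_inv, mul_comm ((B.index : ℂ))⁻¹, mul_assoc, Finset.mul_sum]
  congr 1
  refine Finset.sum_congr rfl fun b _ => ?_
  have h2 : (B.index : ℂ) ≠ 0 := Nat.cast_ne_zero.2 Subgroup.index_ne_zero_of_finite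
  rw [Pi.mul_apply, ← hρ, show Θ (π (b : E)) = _ from hgB b]
  field_simp

variable {P : Sylow p G} {n : G} (h : Inverted P n)

include h

open scoped Classical in
/-- The extension of a fully ramified character of the Sylow subgroup. -/
theorem exists_ramified (hω : Function.Injective ω)
    (hnab : ∃ a b : H, π a ∈ (P : Subgroup G) ∧ π b ∈ (P : Subgroup G) ∧ a * b ≠ b * a) :
    ∃ (L : H → ℂ) (d r : ℕ), IsGeneralizedCharacter H L ∧ Odd d ∧ 1 < d ∧ 0 < r ∧
      d * d * r = Nat.card (P : Subgroup G) ∧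
      (∀ g, pp p (π g) = 1 → L g = (d : ℂ) * kfun ω (pp p g)) ∧
      (∀ g, L g = 0 ∨ L g * conj (L g) = (d : ℂ) * d) ∧
      2 * Nat.card (P : Subgroup G) *
          (Finset.univ.filter fun g : H => pp p (π g) ≠ 1 ∧ L g ≠ 0).card + Nat.card H =
        r * Nat.card H := by
  classical
  have hker : IsPGroup p π.ker := IsPGroup.of_card (n := 1) (by rw [hc.card_ker, pow_one])
  let PH : Sylow p H := P.comapOfKerIsPGroup π hker (by rw [MonoidHom.range_eq_top.2 hc.surj]; exact le_top)
  have hPH : ∀ g : H, g ∈ (PH : Subgroup H) ↔ π g ∈ (P : Subgroup G) := fun g => Iff.rfl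
  let C : Subgroup H := (Subgroup.center (PH : Subgroup H)).map (PH : Subgroup H).subtype
  have hC : ∀ g : H, g ∈ C ↔ π g ∈ (P : Subgroup G) ∧ ∀ y, π y ∈ (P : Subgroup G) → y * g = g * y := by
    intro g
    constructor
    · rintro ⟨g', hg', rfl⟩
      exact ⟨(hPH _).1 g'.2, fun y hy => congrArg Subtype.val
        (Subgroup.mem_center_iff.1 hg' ⟨y, (hPH y).2 hy⟩)⟩
    · rintro ⟨hg, hg'⟩
      exact ⟨⟨g, (hPH g).2 hg⟩, Subgroup.mem_center_iff.2 fun y => Subtype.ext (hg' y ((hPH _).1 y.2)),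
        rfl⟩
  have hkerC : π.ker ≤ C := fun z hz => (hC z).2 ⟨by rw [MonoidHom.mem_ker.1 hz]; exact one_mem _,
    fun y _ => Subgroup.mem_center_iff.1 (hc.central hz) y⟩
  obtain ⟨m, hm⟩ := hc.surj n
  have hnP : ∀ y, π y ∈ (P : Subgroup G) → π (m * y * m⁻¹) = (π y)⁻¹ := fun y hy => by
    rw [map_mul, map_mul, map_inv, hm, h.inv _ hy]
  have hnC : ∀ g ∈ C, m * g * m⁻¹ ∈ C := by
    intro g hg
    obtain ⟨hgP, hg'⟩ := (hC g).1 hg
    refine (hC _).2 ⟨by rw [hnP g hgP]; exact inv_mem hgP, fun y hy => ?_⟩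
    have hy' : π (m⁻¹ * y * m) ∈ (P : Subgroup G) := by
      rw [map_mul, map_mul, map_inv, hm, show n⁻¹ * π y * n = (π y)⁻¹ from ?_]
      · exact inv_mem hy
      · have e := h.inv _ (inv_mem hy)
        rw [inv_inv] at e
        conv_lhs => rw [← e]
        group
    calc y * (m * g * m⁻¹) = m * ((m⁻¹ * y * m) * g) * m⁻¹ := by group
      _ = m * (g * (m⁻¹ * y * m)) * m⁻¹ := by rw [hg' _ hy']
      _ = m * g * m⁻¹ * y := by group
  -- centralisers lift
  have hlift : ∀ g ∈ C, ∀ k : H, π k * π g = π g * π k → k * g = g * k := by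
    intro g hg k hk
    obtain ⟨hgP, hg'⟩ := (hC g).1 hg
    by_cases hg1 : π g = 1
    · exact Subgroup.mem_center_iff.1 (hc.central hg1) k
    let Cx : Subgroup H := (Subgroup.centralizer ({π g} : Set G)).comap π
    have hkC : k ∈ Cx := Subgroup.mem_centralizer_singleton_iff.2 hk
    let φ : Cx →* π.ker := MonoidHom.mk'
      (fun x => ⟨(x : H) * g * (x : H)⁻¹ * g⁻¹, by
        rw [MonoidHom.mem_ker, map_mul, map_mul, map_mul, map_inv, map_inv,
          Subgroup.mem_centralizer_singleton_iff.1 x.2, mul_inv_cancel_right, mul_inv_cancel]⟩)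
      fun x y => by
        have hy : (y : H) * g * (y : H)⁻¹ * g⁻¹ ∈ π.ker := by
          rw [MonoidHom.mem_ker, map_mul, map_mul, map_mul, map_inv, map_inv,
            Subgroup.mem_centralizer_singleton_iff.1 y.2, mul_inv_cancel_right, mul_inv_cancel]
        have hcy := Subgroup.mem_center_iff.1 (hc.central hy) (x : H)
        have hcy' := Subgroup.mem_center_iff.1 (hc.central hy) ((x : H) * g * (x : H)⁻¹ * g⁻¹)
        refine Subtype.ext ?_
        simp only [Subgroup.coe_mul]
        calc (x : H) * y * g * ((x : H) * y)⁻¹ * g⁻¹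
            = (x : H) * ((y : H) * g * (y : H)⁻¹ * g⁻¹) * g * (x : H)⁻¹ * g⁻¹ := by group
          _ = ((y : H) * g * (y : H)⁻¹ * g⁻¹) * (x : H) * g * (x : H)⁻¹ * g⁻¹ := by rw [hcy]
          _ = ((y : H) * g * (y : H)⁻¹ * g⁻¹) * ((x : H) * g * (x : H)⁻¹ * g⁻¹) := by group
          _ = _ := by rw [← hcy']
    have hle : (PH : Subgroup H) ≤ Cx := fun y hy =>
      Subgroup.mem_centralizer_singleton_iff.2 (by rw [← map_mul, hg' y ((hPH y).1 hy), map_mul])
    have hker' : (PH : Subgroup H).subgroupOf Cx ≤ φ.ker := fun y hy => Subtype.ext (by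
      show (y : H) * g * (y : H)⁻¹ * g⁻¹ = 1
      rw [hg' (y : H) ((hPH _).1 hy), mul_inv_cancel_right, mul_inv_cancel])
    have hidx : φ.ker.index = 1 := by
      have h1 : φ.ker.index ∣ p := by
        rw [Subgroup.index_ker]
        exact hc.card_ker ▸ Subgroup.card_subgroup_dvd_card _
      have h2 : φ.ker.index ∣ ((PH.subtype hle : Sylow p Cx) : Subgroup Cx).index :=
        Subgroup.index_dvd_of_le hker'
      rcases hp.out.eq_one_or_self_of_dvd _ h1 with e | e
      · exact e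
      · exact absurd (e ▸ h2) (Sylow.not_dvd_index _)
    have hk' : (⟨k, hkC⟩ : Cx) ∈ φ.ker := by rw [Subgroup.index_eq_one.1 hidx]; exact Subgroup.mem_top _
    exact mul_inv_eq_iff_eq_mul.1 (mul_inv_eq_one.1 (congrArg Subtype.val hk' : k * g * k⁻¹ * g⁻¹ = 1))
  have hCcomm : ∀ g ∈ C, ∀ g' ∈ C, g * g' = g' * g := fun g hg g' hg' =>
    ((hC g').1 hg').2 g ((hC g).1 hg).1
  have hmm : ∀ g ∈ C, m * (m * g * m⁻¹) * m⁻¹ = g := by
    intro g hg
    have hgP := ((hC g).1 hg).1
    have e : m * (m * g * m⁻¹) * m⁻¹ = (m * m) * g * (m * m)⁻¹ := by group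
    rw [e, hlift g hg (m * m) ?_, mul_inv_cancel_right]
    rw [map_mul, hm]
    have h1 := h.inv _ hgP
    have h2 := h.inv _ (inv_mem hgP)
    rw [inv_inv, ← h1] at h2
    calc n * n * π g = n * (n * π g * n⁻¹) * n⁻¹ * (n * n) := by group
      _ = π g * (n * n) := by rw [h2]
  -- the central character
  let zz : C →* π.ker := MonoidHom.mk'
    (fun g => ⟨(g : H) * (m * g * m⁻¹), by
      rw [MonoidHom.mem_ker, map_mul, hnP _ ((hC _).1 g.2).1, mul_inv_cancel]⟩)
    fun a b => Subtype.ext (by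
      simp only [Subgroup.coe_mul]
      have e := hCcomm _ b.2 _ (hnC _ a.2)
      calc (a : H) * b * (m * ((a : H) * b) * m⁻¹) = (a : H) * ((b : H) * (m * a * m⁻¹)) * (m * b * m⁻¹) := by
            group
        _ = (a : H) * ((m * a * m⁻¹) * (b : H)) * (m * b * m⁻¹) := by rw [e]
        _ = _ := by group)
  let ν : C →* ℂˣ :=
    MonoidHom.mk' (fun g => ω (zz g) ^ ((p + 1) / 2)) fun a b => by rw [map_mul, map_mul, mul_pow]
  have hp2 : 2 * ((p + 1) / 2) = p + 1 := by
    have := hp.out.odd_of_ne_two h.odd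
    obtain ⟨t, rfl⟩ := this
    omega
  have hνker : ∀ z : π.ker, ν ⟨z, hkerC z.2⟩ = ω z := by
    intro z
    have : zz ⟨z, hkerC z.2⟩ = z ^ 2 := Subtype.ext (by
      show (z : H) * (m * z * m⁻¹) = _
      rw [Subgroup.mem_center_iff.1 (hc.central z.2) m, mul_inv_cancel_right]
      simp [pow_two])
    show ω (zz ⟨z, hkerC z.2⟩) ^ ((p + 1) / 2) = ω z
    rw [this, map_pow, ← pow_mul, hp2, pow_succ, ← map_pow,
      show z ^ p = 1 from Subtype.ext (hc.pow_ker z.2), map_one, one_mul]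
  have hνinv : ∀ g : C, ν ⟨m * g * m⁻¹, hnC _ g.2⟩ = ν g := by
    intro g
    show ω (zz ⟨m * g * m⁻¹, hnC _ g.2⟩) ^ _ = ω (zz g) ^ _
    congr 2
    refine Subtype.ext ?_
    show m * (g : H) * m⁻¹ * (m * (m * g * m⁻¹) * m⁻¹) = (g : H) * (m * g * m⁻¹)
    rw [hmm _ g.2]
    exact hCcomm _ (hnC _ g.2) _ g.2
  -- the irreducible character over it
  let CP : Subgroup (PH : Subgroup H) := Subgroup.center (PH : Subgroup H)
  let ι : CP →* C := ((PH : Subgroup H).subtype.comp CP.subtype).codRestrict C fun y =>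
    ⟨y.1, y.2, rfl⟩
  haveI : Fintype CP := Fintype.ofFinite _
  obtain ⟨η, hη⟩ := Cfsg.Agent.SmallDegrees.exists_over_any CP ⟨_, isIrrCharacter_linear (ν.comp ι)⟩
  have hscal : ∀ (z : CP) (y : (PH : Subgroup H)),
      (η : ↥(PH : Subgroup H) → ℂ) ((z : (PH : Subgroup H)) * y) =
        ((ν (ι z) : ℂˣ) : ℂ) * (η : ↥(PH : Subgroup H) → ℂ) y := by
    choose cz _ hcz _ using fun z : CP => IsIrrCharacter.exists_central_scalar η.2 z.2
    have h1 : ∀ z w : CP, cz (z * w) = cz z * cz w := fun z w => by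
      refine mul_right_cancel₀ (irr_one_ne_zero η) ?_
      rw [← hcz, mul_one, mul_assoc, ← hcz w, mul_one, ← hcz, Subgroup.coe_mul]
    have hone : cz 1 = 1 := mul_right_cancel₀ (irr_one_ne_zero η) (by
      rw [← hcz, OneMemClass.coe_one, one_mul, one_mul])
    let μ : CP →* ℂˣ := MonoidHom.mk'
      (fun z => ⟨cz z, cz z⁻¹, by rw [← h1, mul_inv_cancel, hone], by rw [← h1, inv_mul_cancel, hone]⟩)
      fun z w => Units.ext (h1 z w)
    have hres : ∀ z : CP, (η : ↥(PH : Subgroup H) → ℂ) z = cz z * (η : ↥(PH : Subgroup H) → ℂ) 1 :=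
      fun z => by rw [← hcz, mul_one]
    have hμ : μ = ν.comp ι := by
      by_contra hne
      refine hη ?_
      rw [show (fun z : CP => (η : ↥(PH : Subgroup H) → ℂ) z) =
        (η : ↥(PH : Subgroup H) → ℂ) 1 • (fun z : CP => ((μ z : ℂˣ) : ℂ)) from funext fun z => by
          rw [Pi.smul_apply, smul_eq_mul, hres, mul_comm]; rfl, classInner_smul_left,
        classInner_irr_of_ne (isIrrCharacter_linear μ) (isIrrCharacter_linear (ν.comp ι))
          fun e => hne (MonoidHom.ext fun z => Units.ext (congrFun e z)), mul_zero]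
    intro z y
    rw [hcz, show cz z = ((μ z : ℂˣ) : ℂ) from rfl, hμ]
    rfl
  set d := charDegree (η : ↥(PH : Subgroup H) → ℂ) with hd
  obtain ⟨d', hd'⟩ := IsCharacter.exists_degree (irr_isCharacter η)
  have hd1 : (η : ↥(PH : Subgroup H) → ℂ) 1 = (d : ℂ) := by
    rw [hd, charDegree, hd']; simp
  have hηclass : IsClassFunction (PH : Subgroup H) (η : ↥(PH : Subgroup H) → ℂ) :=
    IsCharacter.isClassFunction (irr_isCharacter η)
  have hoff : ∀ y : (PH : Subgroup H), y ∉ CP → (η : ↥(PH : Subgroup H) → ℂ) y = 0 := by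
    intro y hy
    obtain ⟨k, hk⟩ : ∃ k, k * y ≠ y * k := by
      by_contra hcon; push Not at hcon; exact hy (Subgroup.mem_center_iff.2 hcon)
    have hz : ((k * y * k⁻¹ * y⁻¹ : (PH : Subgroup H)) : H) ∈ π.ker := by
      simp only [Subgroup.coe_mul, Subgroup.coe_inv, MonoidHom.mem_ker, map_mul, map_inv]
      rw [h.mul_comm' ((hPH _).1 k.2) ((hPH _).1 y.2), mul_inv_cancel_right, mul_inv_cancel]
    have hzC : k * y * k⁻¹ * y⁻¹ ∈ CP :=
      Subgroup.mem_center_iff.2 fun x => Subtype.ext (Subgroup.mem_center_iff.1 (hc.central hz) (x : H))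
    have e := hscal ⟨_, hzC⟩ y
    rw [show ((⟨_, hzC⟩ : CP) : (PH : Subgroup H)) * y = k * y * k⁻¹ from inv_mul_cancel_right _ _,
      hηclass, show ι ⟨_, hzC⟩ = ⟨_, hkerC hz⟩ from Subtype.ext rfl, hνker ⟨_, hz⟩] at e
    by_contra h0
    have e2 : ω ⟨_, hz⟩ = 1 := Units.ext ((mul_eq_right₀ h0).1 e.symm)
    have e3 := hω (e2.trans (map_one ω).symm)
    exact hk (mul_inv_eq_iff_eq_mul.1 (mul_inv_eq_one.1 (Subtype.ext (by
      have e4 := congrArg (fun z : π.ker => (z : H)) e3
      simpa using e4))))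
  have hηC : ∀ (y : (PH : Subgroup H)) (hy : (y : H) ∈ C),
      (η : ↥(PH : Subgroup H) → ℂ) y = ((ν ⟨y, hy⟩ : ℂˣ) : ℂ) * (d : ℂ) := by
    intro y hy
    obtain ⟨w, hw, he⟩ := id hy
    obtain rfl : w = y := Subtype.ext he
    have e := hscal ⟨w, hw⟩ 1
    rwa [mul_one, hd1] at e
  have hmemC : ∀ y : (PH : Subgroup H), (y : H) ∈ C ↔ y ∈ CP := fun y =>
    ⟨fun ⟨w, hw, he⟩ => (Subtype.ext he : w = y) ▸ hw, fun hy => ⟨y, hy, rfl⟩⟩
  have hνconj : ∀ g : C, ((ν g : ℂˣ) : ℂ) * conj ((ν g : ℂˣ) : ℂ) = 1 := by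
    intro g
    have h1 : ((ν g : ℂˣ) : ℂ) ^ Nat.card C = 1 := by
      rw [← Units.val_pow_eq_pow_val, ← map_pow, pow_card_eq_one', map_one, Units.val_one]
    rw [Complex.mul_conj, Complex.normSq_eq_norm_sq, norm_eq_one_of_pow Nat.card_pos.ne' h1]
    simp
  have hnorm : d * d * Nat.card C = Nat.card (PH : Subgroup H) := by
    have e := classInner_self_irr η.2
    unfold Cfsg.classInner at e
    rw [← Finset.sum_filter_add_sum_filter_not Finset.univ (fun y : (PH : Subgroup H) => y ∈ CP),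
      Finset.sum_eq_zero (s := Finset.univ.filter fun y : (PH : Subgroup H) => ¬ y ∈ CP) fun y hy => by
        rw [hoff y (Finset.mem_filter.1 hy).2, zero_mul], add_zero,
      Finset.sum_congr rfl (g := fun _ => (d : ℂ) * d) fun y hy => by
        have hyC := (hmemC y).2 (Finset.mem_filter.1 hy).2
        rw [hηC y hyC, map_mul, Complex.conj_natCast, mul_mul_mul_comm, hνconj, one_mul],
      Finset.sum_const, nsmul_eq_mul] at e
    have hcard : (Finset.univ.filter fun y : (PH : Subgroup H) => y ∈ CP).card = Nat.card C := by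
      rw [← Fintype.card_subtype, ← Nat.card_eq_fintype_card,
        Subgroup.card_map_of_injective Subtype.val_injective]
    rw [hcard] at e
    have hP0 : (Nat.card (PH : Subgroup H) : ℂ) ≠ 0 := Nat.cast_ne_zero.2 Nat.card_pos.ne'
    field_simp at e
    exact_mod_cast (by linear_combination e :
      (d : ℂ) * d * (Nat.card C : ℂ) = (Nat.card (PH : Subgroup H) : ℂ))
  -- stability
  have hfus : ∀ x y : (PH : Subgroup H), IsConj (x : H) (y : H) →
      (η : ↥(PH : Subgroup H) → ℂ) x = (η : ↥(PH : Subgroup H) → ℂ) y := by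
    intro x y hxy
    have key : ∀ x y : (PH : Subgroup H), IsConj (x : H) (y : H) → (x : H) ∈ C →
        (y : H) = x ∨ (y : H) = m * x * m⁻¹ := by
      intro x y hxy hx
      obtain ⟨k, hk⟩ := isConj_iff.1 hxy
      have hxP := (hPH _).1 x.2
      have hkπ : π k * π x * (π k)⁻¹ = π y := by rw [← hk, map_mul, map_mul, map_inv]
      rcases h.fusion hxP (g := π k) (by rw [hkπ]; exact (hPH _).1 y.2) with e | e
      · left
        rw [← hk, hlift _ hx k (mul_inv_eq_iff_eq_mul.1 e), mul_inv_cancel_right]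
      · right
        have hx' := hnC _ hx
        have e' : π k * (π x)⁻¹⁻¹ * (π k)⁻¹ = (π x)⁻¹ := by rw [inv_inv, e]
        have e2 : π (m⁻¹ * k) * π x = π x * π (m⁻¹ * k) := by
          rw [map_mul, map_inv, hm, mul_assoc, mul_inv_eq_iff_eq_mul.1 e, ← mul_assoc, ← mul_assoc]
          congr 1
          rw [inv_mul_eq_iff_eq_mul, ← mul_assoc]
          exact (h.inv _ hxP).symm
        calc (y : H) = k * x * k⁻¹ := hk.symm
          _ = m * ((m⁻¹ * k) * x * (m⁻¹ * k)⁻¹) * m⁻¹ := by group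
          _ = m * x * m⁻¹ := by rw [hlift _ hx _ e2, mul_inv_cancel_right]
    by_cases hx : (x : H) ∈ C
    · rcases key x y hxy hx with e | e
      · rw [Subtype.ext e]
      · rw [hηC x hx, hηC y (e ▸ hnC _ hx), ← hνinv ⟨x, hx⟩]
        congr 3
        first
          | exact Subtype.ext e.symm
          | exact congrArg ν (Subtype.ext e.symm)
          | exact e.symm
    · have hy : (y : H) ∉ C := fun hy => hx (by
        rcases key y x hxy.symm hy with e | e <;> rw [e]
        exacts [hy, hnC _ hy])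
      rw [hoff x fun e => hx ((hmemC x).2 e), hoff y fun e => hy ((hmemC y).2 e)]
  obtain ⟨L, hLg, hLpp, hLP⟩ := exists_sectional PH (fun y => (η : ↥(PH : Subgroup H) → ℂ) y) hfus
    (IsGeneralizedCharacter.of_isCharacter (irr_isCharacter η))
  have hLclass : IsClassFunction H L := IsGeneralizedCharacter.isClassFunction hLg
  set T := C.map π with hT
  have hTP : T ≤ (P : Subgroup G) := by
    rintro _ ⟨g, hg, rfl⟩; exact ((hC g).1 hg).1
  -- values
  have hval : ∀ g : H, ∀ k : H, π (k * pp p g * k⁻¹) ∈ (P : Subgroup G) →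
      L g = if hy : k * pp p g * k⁻¹ ∈ C then ((ν ⟨_, hy⟩ : ℂˣ) : ℂ) * (d : ℂ) else 0 := by
    intro g k hk
    have e : L g = (η : ↥(PH : Subgroup H) → ℂ) ⟨_, (hPH _).2 hk⟩ := by
      rw [hLpp, ← hLclass (pp p g) k]
      exact hLP ⟨_, (hPH _).2 hk⟩
    rw [e]
    split_ifs with hy
    · exact hηC _ hy
    · exact hoff _ fun h' => hy ((hmemC _).2 h')
  have hcardC : Nat.card C = p * Nat.card T := by
    have e := (π.ker.subgroupOf C).index_mul_card
    rw [← (Nat.card_congr (Subgroup.subgroupOfEquivOfLe hkerC).symm.toEquiv), hc.card_ker] at e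
    rw [← e, hT, mul_comm]
    congr 1
    have h1 : (π.comp C.subtype).ker = π.ker.subgroupOf C := rfl
    rw [← h1, Subgroup.index_ker, MonoidHom.range_comp, Subgroup.range_subtype]
  have hcardPH : Nat.card (PH : Subgroup H) = p * Nat.card (P : Subgroup G) := by
    have e := (π.ker.subgroupOf (PH : Subgroup H)).index_mul_card
    have hle : π.ker ≤ (PH : Subgroup H) := fun z hz => (hPH z).2 (by
      rw [MonoidHom.mem_ker.1 hz]; exact one_mem _)
    rw [← (Nat.card_congr (Subgroup.subgroupOfEquivOfLe hle).symm.toEquiv), hc.card_ker] at e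
    rw [← e, mul_comm]
    congr 1
    have h1 : (π.comp (PH : Subgroup H).subtype).ker = π.ker.subgroupOf (PH : Subgroup H) := rfl
    rw [← h1, Subgroup.index_ker, MonoidHom.range_comp, Subgroup.range_subtype,
      show ((PH : Subgroup H).map π) = (P : Subgroup G) from
        Subgroup.map_comap_eq_self_of_surjective hc.surj _]
  have hdq : d * d * Nat.card T = Nat.card (P : Subgroup G) := by
    rw [hcardC, hcardPH, mul_left_comm] at hnorm
    exact Nat.eq_of_mul_eq_mul_left hp.out.pos hnorm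
  obtain ⟨e, he⟩ := IsPGroup.iff_card.1 P.isPGroup'
  have hdodd : Odd d := by
    have h1 : Odd (d * d * Nat.card T) := by
      rw [hdq, he]; exact (hp.out.odd_of_ne_two h.odd).pow
    exact (Nat.odd_mul.1 (Nat.odd_mul.1 h1).1).1
  refine ⟨L, d, Nat.card T, hLg, hdodd, ?_, Nat.card_pos, hdq, ?_, ?_, ?_⟩
  · by_contra hd2
    obtain ⟨a, b, ha, hb, hne⟩ := hnab
    have hd0 : d = 1 := by
      rcases hdodd with ⟨t, ht⟩; omega
    have htop : CP = ⊤ := Subgroup.eq_top_of_card_eq _ (by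
      rw [hd0, one_mul, one_mul] at hnorm
      rw [← hnorm, Subgroup.card_map_of_injective Subtype.val_injective])
    exact hne (congrArg Subtype.val (Subgroup.mem_center_iff.1
      (show (⟨b, (hPH b).2 hb⟩ : (PH : Subgroup H)) ∈ CP from htop ▸ Subgroup.mem_top _)
      ⟨a, (hPH a).2 ha⟩))
  · intro g hg
    have hk := (hc.pp_mem_iff g).2 hg
    have e1 : π ((1 : H) * pp p g * (1 : H)⁻¹) ∈ (P : Subgroup G) := by
      rw [one_mul, inv_one, mul_one, MonoidHom.mem_ker.1 hk]; exact one_mem _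
    rw [hval g 1 e1, dif_pos (by rw [one_mul, inv_one, mul_one]; exact hkerC hk), mul_comm,
      hc.kfun_coe ω ⟨_, hk⟩, ← hνker ⟨_, hk⟩]
    congr 3
    first
      | exact Subtype.ext (by simp)
      | exact congrArg ν (Subtype.ext (by simp))
      | simp
  · intro g
    obtain ⟨k, hk⟩ := exists_conj_mem (P := PH) (pp_elt (p := p) g)
    rw [hval g k ((hPH _).1 hk)]
    split_ifs with hy
    · right
      rw [map_mul, Complex.conj_natCast, mul_mul_mul_comm, hνconj, one_mul]
    · left; rfl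
  · have hcond : ∀ g : H, L g ≠ 0 ↔ ∃ k : G, k * pp p (π g) * k⁻¹ ∈ T := by
      intro g
      obtain ⟨k, hk⟩ := exists_conj_mem (P := PH) (pp_elt (p := p) g)
      rw [hval g k ((hPH _).1 hk)]
      constructor
      · intro hne
        by_cases hy : k * pp p g * k⁻¹ ∈ C
        · refine ⟨π k, ?_⟩
          rw [pp_map, ← map_inv, ← map_mul, ← map_mul]
          exact Subgroup.mem_map_of_mem π hy
        · exact absurd (dif_neg hy) hne
      · rintro ⟨l, hl⟩
        have hl' : π (k * pp p g * k⁻¹) = (π k * l⁻¹) * (l * pp p (π g) * l⁻¹) * (π k * l⁻¹)⁻¹ := by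
          rw [pp_map, map_mul, map_mul, map_inv]; group
        have hy : k * pp p g * k⁻¹ ∈ C := by
          have h1 : π (k * pp p g * k⁻¹) ∈ T := by
            rcases h.fusion (g := π k * l⁻¹) (hTP hl) (by rw [← hl']; exact (hPH _).1 hk) with e | e <;>
              rw [hl', e]
            exacts [hl, inv_mem hl]
          obtain ⟨w, hw, hwe⟩ := h1
          have h2 : w⁻¹ * (k * pp p g * k⁻¹) ∈ π.ker := by
            rw [MonoidHom.mem_ker, map_mul, map_inv, hwe, inv_mul_cancel]
          simpa using mul_mem hw (hkerC h2)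
        rw [dif_pos hy]
        exact mul_ne_zero (Units.ne_zero _)
          (Nat.cast_ne_zero.2 fun e => by rw [e] at hdodd; simp at hdodd)
    set A := Finset.univ.filter fun g : G => pp p g ≠ 1 ∧ ∃ k : G, k * pp p g * k⁻¹ ∈ T with hA
    have e1 : (Finset.univ.filter fun g : H => pp p (π g) ≠ 1 ∧ L g ≠ 0).card = p * A.card := by
      rw [← Nat.card_eq_finsetCard, ← Nat.card_eq_finsetCard]
      refine Eq.trans ?_ (show Nat.card (↥A × π.ker) = p * Nat.card ↥A by
        rw [Nat.card_prod, hc.card_ker, mul_comm])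
      choose sec hsec using hc.surj
      refine Nat.card_congr
        { toFun := fun g => (⟨π g.1, Finset.mem_filter.2 ⟨Finset.mem_univ _,
              (Finset.mem_filter.1 g.2).2.1, (hcond _).1 (Finset.mem_filter.1 g.2).2.2⟩⟩,
            ⟨(sec (π g.1))⁻¹ * g.1, by rw [MonoidHom.mem_ker, map_mul, map_inv, hsec, inv_mul_cancel]⟩)
          invFun := fun a => ⟨sec a.1.1 * a.2.1, ?_⟩
          left_inv := fun g => Subtype.ext (mul_inv_cancel_left _ _)
          right_inv := fun a => ?_ }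
      · have hπ : π (sec a.1.1 * a.2.1) = a.1.1 := by
          rw [map_mul, hsec, MonoidHom.mem_ker.1 a.2.2, mul_one]
        exact Finset.mem_filter.2 ⟨Finset.mem_univ _, by rw [hπ]; exact (Finset.mem_filter.1 a.1.2).2.1,
          (hcond _).2 (by rw [hπ]; exact (Finset.mem_filter.1 a.1.2).2.2)⟩
      · have hπ : π (sec a.1.1 * a.2.1) = a.1.1 := by
          rw [map_mul, hsec, MonoidHom.mem_ker.1 a.2.2, mul_one]
        refine Prod.ext (Subtype.ext hπ) (Subtype.ext ?_)
        show (sec (π (sec a.1.1 * a.2.1)))⁻¹ * (sec a.1.1 * a.2.1) = (a.2.1 : H)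
        rw [hπ, inv_mul_cancel_left]
    have e2 := sum_singular_pp h (fun x => if ∃ k : G, k * x * k⁻¹ ∈ T then 1 else 0) fun x c => by
      show (if ∃ k : G, k * (c * x * c⁻¹) * k⁻¹ ∈ T then (1 : ℂ) else 0) = _
      refine if_congr ⟨fun ⟨k, hk⟩ => ⟨k * c, by rwa [show k * c * x * (k * c)⁻¹ = k * (c * x * c⁻¹) * k⁻¹ by group]⟩,
        fun ⟨k, hk⟩ => ⟨k * c⁻¹, by rwa [show k * c⁻¹ * (c * x * c⁻¹) * (k * c⁻¹)⁻¹ = k * x * k⁻¹ by group]⟩⟩ rfl rfl
    rw [Finset.sum_boole, Finset.sum_boole, Finset.filter_filter, Finset.filter_filter, ← hA] at e2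
    have e3 : (Finset.univ.filter fun x : G => (x ∈ (P : Subgroup G) ∧ x ≠ 1) ∧
        ∃ k : G, k * x * k⁻¹ ∈ T).card + 1 = Nat.card T := by
      rw [Nat.card_eq_fintype_card, Fintype.card_subtype,
        ← Finset.card_erase_add_one (s := Finset.univ.filter fun x : G => x ∈ T) (a := 1) (by simp)]
      congr 2
      ext x
      simp only [Finset.mem_filter, Finset.mem_univ, true_and, Finset.mem_erase]
      constructor
      · rintro ⟨⟨hxP, hx1⟩, k, hk⟩
        refine ⟨hx1, ?_⟩
        rcases h.fusion (g := k) hxP (hTP hk) with e | e <;> rw [e] at hk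
        exacts [hk, inv_mem_iff.1 hk]
      · rintro ⟨hx1, hx⟩
        exact ⟨⟨hTP hx, hx1⟩, 1, by simpa using hx⟩
    have hH : Nat.card H = p * Nat.card G := by
      rw [← π.ker.index_mul_card, hc.card_ker, Subgroup.index_ker, MonoidHom.range_eq_top.2 hc.surj,
        Subgroup.card_top, mul_comm]
    rw [e1, hH, ← e3]
    have e4 : 2 * Nat.card (P : Subgroup G) * A.card =
        Nat.card G * (Finset.univ.filter fun x : G => (x ∈ (P : Subgroup G) ∧ x ≠ 1) ∧
          ∃ k : G, k * x * k⁻¹ ∈ T).card := by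
      have hq0 : (Nat.card (P : Subgroup G) : ℂ) ≠ 0 := Nat.cast_ne_zero.2 Nat.card_pos.ne'
      field_simp at e2
      exact_mod_cast (by linear_combination e2 : (2 : ℂ) * Nat.card (P : Subgroup G) * A.card =
        (Nat.card G : ℂ) * (Finset.univ.filter fun x : G => (x ∈ (P : Subgroup G) ∧ x ≠ 1) ∧
          ∃ k : G, k * x * k⁻¹ ∈ T).card)
    linear_combination p * e4

end Cover

end Cfsg.Agent.SmithTyrer
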