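import Cfsg.Agent.Lib.SmithTyrer.Local
import Mathlib.GroupTheory.FiniteAbelian.Basic
import Mathlib.GroupTheory.GroupAction.Quotient
import Mathlib.Data.ZMod.Basic

/-!
A central extension by a group of order `p` in which an abelian, non-cyclic, inverted Sylow
subgroup lifts to a non-abelian group: the corestriction of a bilinear cocycle.
-/

set_option autoImplicit false
set_option linter.unusedSectionVars false
set_option linter.style.haveILetI false

namespace Cfsg.Agent.SmithTyrer

open Cfsg

universe u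

/-- A normalised two-cocycle. -/
structure Cocycle (G : Type u) [Group G] (p : ℕ) where
  f : G → G → ZMod p
  assoc : ∀ g h k, f g h + f (g * h) k = f g (h * k) + f h k
  one_left : ∀ g, f 1 g = 0
  one_right : ∀ g, f g 1 = 0

/-- The extension belonging to a cocycle. -/
@[ext] structure CExt {G : Type u} [Group G] {p : ℕ} (c : Cocycle G p) : Type u where
  g : G
  z : ZMod p

namespace CExt

variable {G : Type u} [Group G] {p : ℕ} {c : Cocycle G p}

instance : Mul (CExt c) := ⟨fun a b => ⟨a.g * b.g, a.z + b.z + c.f a.g b.g⟩⟩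
instance : One (CExt c) := ⟨⟨1, 0⟩⟩
instance : Inv (CExt c) := ⟨fun a => ⟨a.g⁻¹, -a.z - c.f a.g⁻¹ a.g⟩⟩

theorem mul_g (a b : CExt c) : (a * b).g = a.g * b.g := rfl
theorem mul_z (a b : CExt c) : (a * b).z = a.z + b.z + c.f a.g b.g := rfl
theorem one_g : (1 : CExt c).g = 1 := rfl
theorem one_z : (1 : CExt c).z = 0 := rfl
theorem inv_g (a : CExt c) : a⁻¹.g = a.g⁻¹ := rfl
theorem inv_z (a : CExt c) : a⁻¹.z = -a.z - c.f a.g⁻¹ a.g := rfl

instance : Group (CExt c) :=
  Group.ofLeftAxioms
    (fun a b d => CExt.ext (mul_assoc a.g b.g d.g) (by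
      simp only [mul_z, mul_g]
      linear_combination c.assoc a.g b.g d.g))
    (fun a => CExt.ext (one_mul a.g) (by simp only [mul_z, one_z, one_g, c.one_left]; ring))
    (fun a => CExt.ext (inv_mul_cancel a.g) (by simp only [mul_z, inv_z, inv_g, one_z]; ring))

/-- The projection. -/
def proj (c : Cocycle G p) : CExt c →* G where
  toFun a := a.g
  map_one' := rfl
  map_mul' _ _ := rfl

instance [Finite G] [NeZero p] : Finite (CExt c) :=
  Finite.of_injective (fun a => (a.g, a.z)) fun _ _ e =>
    CExt.ext (congrArg Prod.fst e) (congrArg Prod.snd e)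

theorem ker_central : (proj c).ker ≤ Subgroup.center (CExt c) := by
  intro a ha
  have ha' : a.g = 1 := ha
  refine Subgroup.mem_center_iff.2 fun b => CExt.ext ?_ ?_
  · rw [mul_g, mul_g, ha', one_mul, mul_one]
  · simp only [mul_z, ha', c.one_left, c.one_right]; ring

theorem card_ker [NeZero p] : Nat.card (proj c).ker = p := by
  refine (Nat.card_congr ?_).trans (Nat.card_zmod p)
  exact
    { toFun := fun a => a.1.z
      invFun := fun z => ⟨⟨1, z⟩, rfl⟩
      left_inv := fun a => Subtype.ext (CExt.ext (show 1 = a.1.g from (a.2 : a.1.g = 1).symm) rfl)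
      right_inv := fun _ => rfl }

end CExt

variable {G : Type u} [Group G] [Fintype G] {p : ℕ} [hp : Fact p.Prime] {P : Sylow p G} {n : G}

/-- Two functionals with dual elements on a non-cyclic abelian `p`-group. -/
theorem exists_functionals (h : Inverted P n) (hnc : ¬ IsCyclic (P : Subgroup G)) :
    ∃ (A B : ↥(P : Subgroup G) → ZMod p) (a b : ↥(P : Subgroup G)),
      (∀ x y, A (x * y) = A x + A y) ∧ (∀ x y, B (x * y) = B x + B y) ∧
      A a = 1 ∧ B a = 0 ∧ A b = 0 ∧ B b = 1 := by
  classical
  letI : CommGroup (P : Subgroup G) :=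
    { (inferInstance : Group (P : Subgroup G)) with mul_comm := h.comm.is_comm.comm }
  obtain ⟨ι, hι, m, hm, ⟨e⟩⟩ := CommGroup.equiv_prod_multiplicative_zmod_of_finite (P : Subgroup G)
  have hdvd : ∀ i, p ∣ m i := fun i => by
    haveI : NeZero (m i) := ⟨by have := hm i; omega⟩
    obtain ⟨k, hk⟩ := IsPGroup.iff_orderOf.1 P.isPGroup'
      (e.symm (Pi.mulSingle i (Multiplicative.ofAdd (1 : ZMod (m i)))))
    rw [MulEquiv.orderOf_eq] at hk
    have h1 : orderOf (Multiplicative.ofAdd (1 : ZMod (m i))) ∣ p ^ k := by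
      rw [← hk]
      refine orderOf_dvd_of_pow_eq_one ?_
      have := congrFun (pow_orderOf_eq_one
        (Pi.mulSingle i (Multiplicative.ofAdd (1 : ZMod (m i))) :
          (j : ι) → Multiplicative (ZMod (m j)))) i
      simpa using this
    rw [orderOf_ofAdd_eq_addOrderOf, ZMod.addOrderOf_one] at h1
    obtain ⟨j, -, hj⟩ := (Nat.dvd_prime_pow hp.out).1 h1
    rcases j with _ | j
    · exact absurd (hj.trans (pow_zero p)) (Nat.ne_of_gt (hm i))
    · exact hj ▸ dvd_pow_self p j.succ_ne_zero
  obtain ⟨i, j, hij⟩ : ∃ i j : ι, i ≠ j := by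
    by_contra hc
    push Not at hc
    refine hnc ?_
    rcases isEmpty_or_nonempty ι with he | ⟨⟨i⟩⟩
    · haveI : Subsingleton (P : Subgroup G) := e.toEquiv.subsingleton
      infer_instance
    · haveI : NeZero (m i) := ⟨by have := hm i; omega⟩
      refine isCyclic_of_surjective
        (e.symm.toMonoidHom.comp (MonoidHom.mulSingle (fun j => Multiplicative (ZMod (m j))) i))
        fun x => ⟨e x i, ?_⟩
      refine e.injective (funext fun j => ?_)
      obtain rfl := hc i j
      simp
  let proj : (k : ι) → ↥(P : Subgroup G) → ZMod p := fun k x =>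
    ZMod.castHom (hdvd k) (ZMod p) (Multiplicative.toAdd (e x k))
  have hadd : ∀ k x y, proj k (x * y) = proj k x + proj k y := fun k x y => by
    simp [proj, toAdd_mul, -ZMod.castHom_apply]
  refine ⟨proj i, proj j, e.symm (Pi.mulSingle i (Multiplicative.ofAdd 1)),
    e.symm (Pi.mulSingle j (Multiplicative.ofAdd 1)), hadd i, hadd j, ?_, ?_, ?_, ?_⟩ <;>
    simp [proj, hij, Ne.symm hij, -ZMod.castHom_apply]

/-- The extension. -/
theorem exists_extension (h : Inverted P n) (hnc : ¬ IsCyclic (P : Subgroup G)) :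
    ∃ (H : Type u) (_ : Group H) (_ : Fintype H) (π : H →* G), Function.Surjective π ∧
      Nat.card π.ker = p ∧ π.ker ≤ Subgroup.center H ∧
      ∃ a b : H, π a ∈ (P : Subgroup G) ∧ π b ∈ (P : Subgroup G) ∧ a * b ≠ b * a := by
  classical
  haveI : NeZero p := ⟨hp.out.ne_zero⟩
  obtain ⟨A, B, a, b, hA, hB, hAa, hBa, hAb, hBb⟩ := exists_functionals h hnc
  have hzero : ∀ (F : ↥(P : Subgroup G) → ZMod p), (∀ x y, F (x * y) = F x + F y) →
      F 1 = 0 ∧ (∀ x, F x⁻¹ = -F x) ∧ ∀ (x : ↥(P : Subgroup G)) (k : ℤ), F (x ^ k) = k * F x := by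
    intro F hF
    let φ : ↥(P : Subgroup G) →* Multiplicative (ZMod p) :=
      MonoidHom.mk' (fun x => Multiplicative.ofAdd (F x)) fun x y => by rw [hF]; rfl
    refine ⟨congrArg Multiplicative.toAdd (map_one φ),
      fun x => congrArg Multiplicative.toAdd (map_inv φ x), fun x k => ?_⟩
    have e := congrArg Multiplicative.toAdd (map_zpow φ x k)
    rw [toAdd_zpow, zsmul_eq_mul] at e
    exact e
  set X := G ⧸ (P : Subgroup G) with hX
  -- the transversal
  let fixb : X → Prop := fun i => (b : G) • i = i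
  let mover : X → G := fun i => if fixb i then (a : G) else (b : G)
  let orep : (x : G) → X → X := fun x i =>
    (Quotient.mk (MulAction.orbitRel (Subgroup.zpowers x) X) i).out
  have horep : ∀ (x : G) (i : X), ∃ k : ℤ, x ^ k • orep x i = i := by
    intro x i
    obtain ⟨⟨w, hw⟩, he⟩ := MulAction.orbitRel_apply.1
      (Quotient.exact (Quotient.mk (MulAction.orbitRel (Subgroup.zpowers x) X) i).out_eq)
    obtain ⟨k, rfl⟩ := Subgroup.mem_zpowers_iff.1 hw
    refine ⟨-k, ?_⟩
    rw [show orep x i = x ^ k • i from he.symm, zpow_neg, inv_smul_smul]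
  choose kk hkk using horep
  have horep_smul : ∀ (x : G) (i : X), orep x (x • i) = orep x i := fun x i => by
    refine congrArg Quotient.out (Quotient.sound ?_)
    exact ⟨⟨x, Subgroup.mem_zpowers x⟩, rfl⟩
  let r : X → G := fun i => mover i ^ kk (mover i) i * (orep (mover i) i).out
  have hr : ∀ i : X, (QuotientGroup.mk (r i) : X) = i := by
    intro i
    show (QuotientGroup.mk (mover i ^ kk (mover i) i * (orep (mover i) i).out) : X) = i
    refine Eq.trans ?_ (hkk (mover i) i)
    conv_rhs => rw [← QuotientGroup.out_eq' (orep (mover i) i)]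
    rfl
  have hcoe : ∀ (g : G) (i : X), g • i = QuotientGroup.mk (g * r i) := fun g i => by
    conv_lhs => rw [← hr i]
    rfl
  let α : X → G → ↥(P : Subgroup G) := fun i g => ⟨(r (g • i))⁻¹ * g * r i, by
    rw [mul_assoc]; exact QuotientGroup.eq.1 ((hr (g • i)).trans (hcoe g i))⟩
  have hαmul : ∀ i g k, α i (g * k) = α (k • i) g * α i k := fun i g k => Subtype.ext (by
    show (r ((g * k) • i))⁻¹ * (g * k) * r i =
      (r (g • k • i))⁻¹ * g * r (k • i) * ((r (k • i))⁻¹ * k * r i)
    rw [mul_smul]; group)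
  have hα1 : ∀ i, α i 1 = 1 := fun i => Subtype.ext (by
    show (r ((1 : G) • i))⁻¹ * 1 * r i = 1
    rw [one_smul]; group)
  let f : G → G → ZMod p := fun g k => ∑ i : X, A (α (k • i) g) * B (α i k)
  let co : Cocycle G p :=
    { f := f
      assoc := fun g k l => by
        simp only [f]
        have e : ∑ i : X, A (α (k • i) g) * B (α i k) =
            ∑ i : X, A (α (k • l • i) g) * B (α (l • i) k) :=
          (Fintype.sum_equiv (MulAction.toPerm l) _ (fun i => A (α (k • i) g) * B (α i k))
            fun i => rfl).symm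
        rw [e, ← Finset.sum_add_distrib, ← Finset.sum_add_distrib]
        refine Finset.sum_congr rfl fun i _ => ?_
        rw [hαmul i k l, hB, hαmul (l • i) g k, hA, mul_smul]
        ring
      one_left := fun g => Finset.sum_eq_zero fun i _ => by rw [hα1, (hzero A hA).1, zero_mul]
      one_right := fun g => Finset.sum_eq_zero fun i _ => by rw [hα1, (hzero B hB).1, mul_zero] }
  haveI : Fintype (CExt co) := Fintype.ofFinite _
  refine ⟨CExt co, inferInstance, inferInstance, CExt.proj co, fun g => ⟨⟨g, 0⟩, rfl⟩,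
    CExt.card_ker, CExt.ker_central, ⟨a, 0⟩, ⟨b, 0⟩, a.2, b.2, fun e => ?_⟩
  have he : f a b = f b a := by simpa [CExt.mul_z, co] using congrArg CExt.z e
  have hab : (a : G) * b = b * a := h.mul_comm' a.2 b.2
  -- conjugates in the Sylow subgroup
  have hsign : ∀ (w : ↥(P : Subgroup G)) (o : G) (hm : o⁻¹ * w * o ∈ (P : Subgroup G)),
      (⟨o⁻¹ * w * o, hm⟩ : ↥(P : Subgroup G)) = w ∨
        (⟨o⁻¹ * w * o, hm⟩ : ↥(P : Subgroup G)) = w⁻¹ := fun w o hm =>
    (h.fusion (g := o⁻¹) w.2 (by simpa using hm)).imp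
      (fun e => Subtype.ext (by simpa using e)) fun e => Subtype.ext (by simpa using e)
  have hmoved : ∀ (x : ↥(P : Subgroup G)) (i : X), mover i = (x : G) → (x : G) • i ≠ i →
      mover ((x : G) • i) = (x : G) →
      ∀ F : ↥(P : Subgroup G) → ZMod p, (∀ y z, F (y * z) = F y + F z) → F (α i x) = 0 := by
    intro x i hx hne hx' F hF
    obtain ⟨j, hj⟩ : ∃ j, j = orep (x : G) i := ⟨_, rfl⟩
    set k : ℤ := kk (x : G) i + 1 - kk (x : G) ((x : G) • i) with hk
    set o := j.out with ho
    have e1 : r i = (x : G) ^ kk (x : G) i * o := by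
      show mover i ^ kk (mover i) i * (orep (mover i) i).out = _
      rw [hx, ← hj]
    have e2 : r ((x : G) • i) = (x : G) ^ kk (x : G) ((x : G) • i) * o := by
      show mover ((x : G) • i) ^ kk (mover ((x : G) • i)) ((x : G) • i) *
        (orep (mover ((x : G) • i)) ((x : G) • i)).out = _
      rw [hx', horep_smul, ← hj]
    have hfix : (x : G) ^ k • j = j := by
      have h1 := hkk (x : G) i
      have h2 := hkk (x : G) ((x : G) • i)
      rw [← hj] at h1
      rw [horep_smul, ← hj] at h2
      have h3 : (x : G) ^ (kk (x : G) i + 1) • j = (x : G) • i := by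
        rw [zpow_add_one, ← (Commute.self_zpow (x : G) (kk (x : G) i)).eq, mul_smul, h1]
      rw [hk, sub_eq_add_neg, add_comm, zpow_add, mul_smul, h3, zpow_neg, inv_smul_eq_iff, h2]
    have hαx : (α i x : G) = o⁻¹ * ((x ^ k : ↥(P : Subgroup G)) : G) * o := by
      show (r ((x : G) • i))⁻¹ * x * r i = _
      rw [e1, e2, Subgroup.coe_zpow, hk]
      group
    have hdvd : (p : ℤ) ∣ k := by
      by_contra hkp
      refine hne ?_
      obtain ⟨t, ht⟩ := pElt_of_mem x.2
      have hco : IsCoprime k ((p ^ t : ℕ) : ℤ) := by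
        push_cast
        exact ((Nat.prime_iff_prime_int.1 hp.out).coprime_iff_not_dvd.2 hkp).symm.pow_right
      obtain ⟨u, v, huv⟩ := hco
      have h2 : (x : G) ∈ MulAction.stabilizer G j := by
        have h3 : ((x : G) ^ k) ^ u ∈ MulAction.stabilizer G j := zpow_mem hfix u
        rwa [← zpow_mul, show k * u = 1 + (-v) * ((p ^ t : ℕ) : ℤ) by linear_combination huv,
          zpow_add, zpow_one, mul_comm (-v), zpow_mul, zpow_natCast, ← ht, pow_orderOf_eq_one,
          one_zpow, mul_one] at h3
      rw [← hkk (x : G) i, ← hj, ← mul_smul, (Commute.self_zpow (x : G) _).eq, mul_smul,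
        MulAction.mem_stabilizer_iff.1 h2]
    have h0 : F (x ^ k) = 0 := by
      rw [(hzero F hF).2.2, show ((k : ℤ) : ZMod p) = 0 from
        (ZMod.intCast_zmod_eq_zero_iff_dvd k p).2 hdvd, zero_mul]
    have hm : o⁻¹ * ((x ^ k : ↥(P : Subgroup G)) : G) * o ∈ (P : Subgroup G) := hαx ▸ (α i x).2
    rw [show α i x = ⟨_, hm⟩ from Subtype.ext hαx]
    rcases hsign (x ^ k) o hm with e | e <;> rw [e]
    · exact h0
    · rw [(hzero F hF).2.1, h0, neg_zero]
  have hfixed : ∀ (x : ↥(P : Subgroup G)) (i : X), (x : G) • i = i →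
      α i x = x ∨ α i x = x⁻¹ := by
    intro x i hi
    have hαx : (α i x : G) = (r i)⁻¹ * x * r i := by
      show (r ((x : G) • i))⁻¹ * x * r i = _
      rw [hi]
    have hm : (r i)⁻¹ * (x : G) * r i ∈ (P : Subgroup G) := hαx ▸ (α i x).2
    rw [show α i x = ⟨_, hm⟩ from Subtype.ext hαx]
    exact hsign x (r i) hm
  have hfixb_b : ∀ i, ¬ fixb i → ¬ fixb ((b : G) • i) := fun i hi e => hi (smul_left_cancel (b : G) e)
  have hfixb_a : ∀ i, fixb i → fixb ((a : G) • i) := fun i hi => by
    show (b : G) • (a : G) • i = (a : G) • i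
    rw [← mul_smul, ← hab, mul_smul, hi]
  have hbF : ∀ (F : ↥(P : Subgroup G) → ZMod p), (∀ y z, F (y * z) = F y + F z) → F b = 0 →
      ∀ i, F (α i b) = 0 := by
    intro F hF hFb i
    by_cases hi : fixb i
    · rcases hfixed b i hi with e | e <;> rw [e]
      · exact hFb
      · rw [(hzero F hF).2.1, hFb, neg_zero]
    · exact hmoved b i (if_neg hi) hi (if_neg (hfixb_b i hi)) F hF
  have hba : f b a = 0 := Finset.sum_eq_zero fun i _ => by rw [hbF A hA hAb, zero_mul]
  have hab' : f a b = ((Finset.univ.filter fun i : X => fixb i ∧ (a : G) • i = i).card : ZMod p) := by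
    rw [Finset.card_filter, Nat.cast_sum]
    refine Finset.sum_congr rfl fun i _ => ?_
    by_cases hi : fixb i
    · have hi' : (b : G) • i = i := hi
      rw [show α ((b : G) • i) (a : G) = α i (a : G) from congrArg (fun j => α j (a : G)) hi']
      by_cases hai : (a : G) • i = i
      · rw [if_pos ⟨hi, hai⟩, Nat.cast_one]
        have hc : (((a * b : ↥(P : Subgroup G))) : G) • i = i := by
          rw [Subgroup.coe_mul, mul_smul, hi', hai]
        have emul : α i ((a * b : ↥(P : Subgroup G)) : G) = α i a * α i b := by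
          rw [Subgroup.coe_mul, hαmul, hi']
        rcases hfixed a i hai with ea | ea <;> rcases hfixed b i hi' with eb | eb <;>
          rcases hfixed (a * b) i hc with ec | ec <;>
          (have k1 := congrArg A (emul.symm.trans ec)
           have k2 := congrArg B (emul.symm.trans ec)
           simp only [ea, eb, hA, hB, (hzero A hA).2.1, (hzero B hB).2.1, hAa, hBa, hAb, hBb] at k1 k2 ⊢
           first
             | ring1
             | linear_combination k1 - k2
             | linear_combination k2 - k1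
             | linear_combination k1
             | linear_combination k2
             | linear_combination -k1
             | linear_combination -k2)
      · rw [if_neg fun c => hai c.2, Nat.cast_zero,
          hmoved a i (if_pos hi) hai (if_pos (hfixb_a i hi)) A hA, zero_mul]
    · rw [if_neg fun c => hi c.1, Nat.cast_zero, hmoved b i (if_neg hi) hi (if_neg (hfixb_b i hi)) B hB,
        mul_zero]
  rw [hab', hba, ZMod.natCast_eq_zero_iff] at he
  -- the number of common fixed points
  have hTP : Subgroup.closure {(a : G), (b : G)} ≤ (P : Subgroup G) :=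
    (Subgroup.closure_le _).2 (Set.insert_subset a.2 (Set.singleton_subset_iff.2 b.2))
  have hmod := (P.isPGroup'.to_le hTP).card_modEq_card_fixedPoints X
  have hcard : Nat.card (MulAction.fixedPoints (Subgroup.closure {(a : G), (b : G)}) X) =
      (Finset.univ.filter fun i : X => fixb i ∧ (a : G) • i = i).card := by
    rw [← Nat.card_eq_finsetCard]
    refine Nat.card_congr (Equiv.subtypeEquivRight fun i => ?_)
    rw [Finset.mem_filter, MulAction.mem_fixedPoints]
    constructor
    · intro hi
      exact ⟨Finset.mem_univ i, hi ⟨b, Subgroup.subset_closure (by simp)⟩,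
        hi ⟨a, Subgroup.subset_closure (by simp)⟩⟩
    · rintro ⟨-, hi, hai⟩ ⟨w, hw⟩
      have h1 : Subgroup.closure {(a : G), (b : G)} ≤ MulAction.stabilizer G i :=
        (Subgroup.closure_le _).2 (Set.insert_subset hai (Set.singleton_subset_iff.2 hi))
      exact h1 hw
  rw [hcard] at hmod
  exact P.not_dvd_index (Nat.modEq_zero_iff_dvd.1 (hmod.trans (Nat.modEq_zero_iff_dvd.2 he)))

end Cfsg.Agent.SmithTyrer
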