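import Cfsg.Agent.Lib.SmithTyrer.Part

/-!
An abelian Sylow subgroup inverted by its normaliser: fusion, centralisers and sums over the
elements with non-trivial `p`-part.
-/

set_option autoImplicit false
set_option linter.unusedSectionVars false
set_option linter.style.haveILetI false

namespace Cfsg.Agent.SmithTyrer

open Cfsg

universe u

variable {G : Type u} [Group G] [Fintype G] {p : ℕ} [hp : Fact p.Prime]

/-- An abelian Sylow subgroup of odd order on which the normaliser induces the inversion. -/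
structure Inverted (P : Sylow p G) (n : G) : Prop where
  odd : p ≠ 2
  comm : IsMulCommutative (P : Subgroup G)
  mem : n ∈ Subgroup.normalizer ((P : Subgroup G) : Set G)
  inv : ∀ x ∈ (P : Subgroup G), n * x * n⁻¹ = x⁻¹
  norm : ∀ g ∈ Subgroup.normalizer ((P : Subgroup G) : Set G),
    (∀ x ∈ (P : Subgroup G), g * x * g⁻¹ = x) ∨ ∀ x ∈ (P : Subgroup G), g * x * g⁻¹ = x⁻¹

variable {P : Sylow p G} {n : G} (h : Inverted P n)

theorem pElt_of_mem {x : G} (hx : x ∈ (P : Subgroup G)) : ∃ k, orderOf x = p ^ k := by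
  obtain ⟨k, hk⟩ := IsPGroup.iff_orderOf.1 P.isPGroup' ⟨x, hx⟩
  exact ⟨k, by rwa [Subgroup.orderOf_mk] at hk⟩

theorem exists_conj_mem {z : G} (hz : ∃ k, orderOf z = p ^ k) :
    ∃ g : G, g * z * g⁻¹ ∈ (P : Subgroup G) := by
  obtain ⟨k, hk⟩ := hz
  obtain ⟨Q, hQ⟩ := (IsPGroup.of_card (n := k) (by rw [Nat.card_zpowers, hk]) :
    IsPGroup p (Subgroup.zpowers z)).exists_le_sylow
  obtain ⟨g, hg⟩ := MulAction.exists_smul_eq G Q P
  refine ⟨g, ?_⟩
  rw [← hg, Sylow.coe_subgroup_smul, Subgroup.mem_smul_pointwise_iff_exists]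
  exact ⟨z, hQ (Subgroup.mem_zpowers z), by simp [MulAut.smul_def]⟩

include h

namespace Inverted

theorem mul_comm' {x y : G} (hx : x ∈ (P : Subgroup G)) (hy : y ∈ (P : Subgroup G)) :
    x * y = y * x :=
  congrArg Subtype.val (h.comm.is_comm.comm ⟨x, hx⟩ ⟨y, hy⟩)

theorem fusion {x g : G} (hx : x ∈ (P : Subgroup G)) (hg : g * x * g⁻¹ ∈ (P : Subgroup G)) :
    g * x * g⁻¹ = x ∨ g * x * g⁻¹ = x⁻¹ := by
  obtain ⟨v, hv, hv'⟩ := AbelianSylow.fusion_normalizer P h.comm x hx g hg
  rw [← hv']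
  exact (h.norm v hv).imp (fun a => a x hx) fun a => a x hx

theorem ne_inv {x : G} (hx : x ∈ (P : Subgroup G)) (hx1 : x ≠ 1) : x ≠ x⁻¹ := by
  intro e
  have h2 : orderOf x ∣ 2 := orderOf_dvd_of_pow_eq_one (by rw [pow_two]; exact eq_inv_iff_mul_eq_one.1 e)
  obtain ⟨k, hk⟩ := pElt_of_mem hx
  rcases k with _ | k
  · exact hx1 (orderOf_eq_one_iff.1 (by simpa using hk))
  · exact h.odd ((Nat.prime_dvd_prime_iff_eq hp.out Nat.prime_two).1
      ((dvd_pow_self p k.succ_ne_zero).trans (hk ▸ h2)))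

theorem sylow_le {x : G} (hx : x ∈ (P : Subgroup G)) :
    (P : Subgroup G) ≤ Subgroup.centralizer ({x} : Set G) := fun y hy =>
  Subgroup.mem_centralizer_singleton_iff.2 (h.mul_comm' hy hx)

theorem complement {x : G} (hx : x ∈ (P : Subgroup G)) (hx1 : x ≠ 1) :
    ∃ K : Subgroup (Subgroup.centralizer ({x} : Set G)), K.Normal ∧ ¬ p ∣ Nat.card K ∧
      K.index = Nat.card (P : Subgroup G) ∧ ∀ w, ¬ p ∣ orderOf w → w ∈ K := by
  set C := Subgroup.centralizer ({x} : Set G)
  have hc : IsMulCommutative ((P.subtype (h.sylow_le hx) : Sylow p C) : Subgroup C) :=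
    ⟨⟨fun a b => Subtype.ext (Subtype.ext (h.mul_comm' a.2 b.2))⟩⟩
  obtain ⟨S, K, hK, hcompl⟩ := AbelianSylow.hasNormalPComplement_of_abelian
    (P.subtype (h.sylow_le hx) : Sylow p C) hc fun g hg _ => by
      have hgN : (g : G) ∈ Subgroup.normalizer ((P : Subgroup G) : Set G) := by
        refine mem_normalizer_of_forall fun a ha => ?_
        have := (Subgroup.mem_normalizer_iff.1 hg ⟨a, h.sylow_le hx ha⟩).1 ha
        exact this
      refine Subgroup.mem_centralizer_iff.2 fun a ha => Subtype.ext ?_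
      show ((a : G)) * g = g * a
      rcases h.norm _ hgN with e | e
      · exact (mul_inv_eq_iff_eq_mul.1 (e a ha)).symm
      · refine absurd ?_ (h.ne_inv hx hx1)
        rw [← e x hx, Subgroup.mem_centralizer_singleton_iff.1 g.2, mul_inv_cancel_right]
  haveI := hK
  have hS : Nat.card (S : Subgroup C) = Nat.card (P : Subgroup G) := by
    rw [Sylow.card_eq_multiplicity,
      ← Sylow.card_eq_multiplicity (P.subtype (h.sylow_le hx) : Sylow p C)]
    exact Nat.card_congr (Subgroup.subgroupOfEquivOfLe (h.sylow_le hx)).toEquiv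
  have hidx : K.index = Nat.card (P : Subgroup G) := hcompl.symm.index_eq_card.trans hS
  refine ⟨K, hK, fun hd => ?_, hidx, fun w hw => ?_⟩
  · exact S.not_dvd_index (hcompl.index_eq_card ▸ hd)
  · obtain ⟨k, hk⟩ := IsPGroup.iff_card.1 P.isPGroup'
    refine (QuotientGroup.eq_one_iff w).1 (orderOf_eq_one_iff.1 ?_)
    have h1 : orderOf (w : C ⧸ K) ∣ p ^ k := by
      have := orderOf_dvd_natCard (w : C ⧸ K)
      rwa [← Subgroup.index_eq_card, hidx, hk] at this
    obtain ⟨i, -, hi⟩ := (Nat.dvd_prime_pow hp.out).1 h1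
    rcases i with _ | i
    · rw [hi, pow_zero]
    · exact absurd ((hi ▸ dvd_pow_self p i.succ_ne_zero).trans (orderOf_map_dvd (QuotientGroup.mk' K) w)) hw
where
  mem_normalizer_of_forall {g : G} {H : Subgroup G} (hg : ∀ a ∈ H, g * a * g⁻¹ ∈ H) :
      g ∈ Subgroup.normalizer (H : Set G) := by
    exact Subgroup.mem_normalizer_fintype hg

/-- The regular elements of a centraliser are one `|P|`-th of it. -/
theorem card_regSet {x : G} (hx : x ∈ (P : Subgroup G)) (hx1 : x ≠ 1) :
    (regSet p x).card * Nat.card (P : Subgroup G) =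
      Nat.card (Subgroup.centralizer ({x} : Set G)) := by
  classical
  obtain ⟨K, hK, hKp, hidx, hreg⟩ := h.complement hx hx1
  have e : (regSet p x).card = Nat.card K := by
    rw [← Nat.card_eq_finsetCard]
    refine Nat.card_congr
      { toFun := fun s => ⟨⟨s.1, Subgroup.mem_centralizer_singleton_iff.2 (mem_regSet.1 s.2).1.eq⟩,
          hreg _ (by rw [← Subgroup.orderOf_coe]; exact (mem_regSet.1 s.2).2)⟩
        invFun := fun k => ⟨((k : Subgroup.centralizer ({x} : Set G)) : G), mem_regSet.2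
          ⟨Subgroup.mem_centralizer_singleton_iff.1 k.1.2, fun hd => hKp ?_⟩⟩
        left_inv := fun s => rfl
        right_inv := fun k => rfl }
    rw [Subgroup.orderOf_coe] at hd
    exact hd.trans (Subgroup.orderOf_dvd_natCard K k.2)
  rw [e, ← hidx, Subgroup.card_mul_index]

end Inverted

open scoped Classical in
/-- A class function summed over the elements of non-trivial `p`-part. -/
theorem sum_singular (f : G → ℂ) (hf : IsClassFunction G f) :
    ∑ g ∈ Finset.univ.filter (fun g : G => pp p g ≠ 1), f g =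
      ∑ x ∈ Finset.univ.filter (fun x : G => x ∈ (P : Subgroup G) ∧ x ≠ 1),
        (Nat.card G : ℂ) / (2 * (Nat.card (Subgroup.centralizer ({x} : Set G)) : ℂ)) *
          ∑ s ∈ regSet p x, f (x * s) := by
  classical
  let F : G → ℂ := fun y => ∑ s ∈ regSet p y, f (y * s)
  have hF : ∀ c y : G, F (c * y * c⁻¹) = F y := by
    intro c y
    refine Finset.sum_bij' (fun s _ => c⁻¹ * s * c) (fun s _ => c * s * c⁻¹) (fun s hs => ?_)
      (fun s hs => ?_) (fun s _ => by group) (fun s _ => by group) (fun s _ => ?_)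
    · obtain ⟨hcm, hs'⟩ := mem_regSet.1 hs
      refine mem_regSet.2 ⟨?_, ?_⟩
      · have := hcm.map (MulAut.conj c⁻¹).toMonoidHom
        simpa [MulAut.conj_apply, mul_assoc] using this
      · rwa [show c⁻¹ * s * c = MulAut.conj c⁻¹ s by simp [MulAut.conj_apply], MulEquiv.orderOf_eq]
    · obtain ⟨hcm, hs'⟩ := mem_regSet.1 hs
      refine mem_regSet.2 ⟨?_, ?_⟩
      · have := hcm.map (MulAut.conj c).toMonoidHom
        simpa [MulAut.conj_apply] using this
      · rwa [show c * s * c⁻¹ = MulAut.conj c s by simp [MulAut.conj_apply], MulEquiv.orderOf_eq]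
    · rw [show c * y * c⁻¹ * s = c * (y * (c⁻¹ * s * c)) * c⁻¹ by group]
      exact hf _ _
  set S := Finset.univ.filter (fun x : G => x ∈ (P : Subgroup G) ∧ x ≠ 1) with hS
  set E := (pElts p G).filter (· ≠ 1) with hE
  have h1 : ∑ g ∈ Finset.univ.filter (fun g : G => pp p g ≠ 1), f g = ∑ y ∈ E, F y := by
    rw [Finset.sum_filter, sum_sections (p := p), hE, Finset.sum_filter]
    refine Finset.sum_congr rfl fun y hy => ?_
    have : ∀ s ∈ regSet p y, pp p (y * s) = y := fun s hs =>
      pp_mul (mem_pElts.1 hy) (mem_regSet.1 hs).1.symm (mem_regSet.1 hs).2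
    split_ifs with hy1
    · exact Finset.sum_congr rfl fun s hs => if_pos (by rwa [this s hs])
    · exact Finset.sum_eq_zero fun s hs => if_neg (by rwa [this s hs])
  have h2 : ∀ x ∈ S, ∀ y : G, IsConj x y → y ∈ E := by
    intro x hx y hy
    obtain ⟨c, rfl⟩ := isConj_iff.1 hy
    obtain ⟨-, hxP, hx1⟩ := Finset.mem_filter.1 hx
    obtain ⟨k, hk⟩ := pElt_of_mem hxP
    refine Finset.mem_filter.2 ⟨mem_pElts.2 ⟨k, ?_⟩, fun e => hx1 (conj_eq_one_iff.1 e)⟩
    rw [← hk, ← MulAut.conj_apply, MulEquiv.orderOf_eq]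
  have h3 : ∀ z ∈ E, ((S ×ˢ Finset.univ).filter fun q : G × G => q.2 * q.1 * q.2⁻¹ = z).card =
      2 * Nat.card (Subgroup.centralizer ({z} : Set G)) := by
    intro z hz
    obtain ⟨hz', hz1⟩ := Finset.mem_filter.1 hz
    obtain ⟨g, hg⟩ := exists_conj_mem (P := P) (mem_pElts.1 hz')
    set x := g * z * g⁻¹ with hx
    have hx1 : x ≠ 1 := fun e => hz1 (conj_eq_one_iff.1 e)
    have hzx : z = g⁻¹ * x * g := by rw [hx]; group
    have key : (S ×ˢ Finset.univ).filter (fun q : G × G => q.2 * q.1 * q.2⁻¹ = z) =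
        ((Finset.univ.filter fun c : G => c ∈ Subgroup.centralizer ({z} : Set G)).image
            fun c => (x, c * g⁻¹)) ∪
          (Finset.univ.filter fun c : G => c ∈ Subgroup.centralizer ({z} : Set G)).image
            fun c => (x⁻¹, c * (g⁻¹ * n)) := by
      have hnx : n * x⁻¹ * n⁻¹ = x := by rw [h.inv _ (inv_mem hg), inv_inv]
      ext ⟨y, d⟩
      simp only [hS, Finset.mem_filter, Finset.mem_product, Finset.mem_univ, and_true, true_and,
        Finset.mem_union, Finset.mem_image, Prod.mk.injEq]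
      constructor
      · rintro ⟨⟨hyP, -⟩, hd⟩
        have hy : y = (g * d)⁻¹ * x * (g * d) := by rw [hx, ← hd]; group
        rcases h.fusion (g := (g * d)⁻¹) hg (by rwa [inv_inv, ← hy]) with e | e <;>
          rw [inv_inv, ← hy] at e
        · refine Or.inl ⟨d * g, Subgroup.mem_centralizer_singleton_iff.2 ?_, e.symm, by group⟩
          calc d * g * z = d * x * g := by rw [hx]; group
            _ = d * y * d⁻¹ * (d * g) := by rw [e]; group
            _ = z * (d * g) := by rw [hd]
        · refine Or.inr ⟨d * (n⁻¹ * g), Subgroup.mem_centralizer_singleton_iff.2 ?_, e.symm, by group⟩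
          calc d * (n⁻¹ * g) * z = d * (n⁻¹ * x * n) * n⁻¹ * g := by rw [hx]; group
            _ = d * y * d⁻¹ * (d * (n⁻¹ * g)) := by
              rw [e]
              conv_lhs => rw [← hnx]
              group
            _ = z * (d * (n⁻¹ * g)) := by rw [hd]
      · rintro (⟨c, hc, rfl, rfl⟩ | ⟨c, hc, rfl, rfl⟩)
        · refine ⟨⟨hg, hx1⟩, ?_⟩
          calc c * g⁻¹ * x * (c * g⁻¹)⁻¹ = c * z * c⁻¹ := by rw [hx]; group
            _ = z := by rw [Subgroup.mem_centralizer_singleton_iff.1 hc, mul_inv_cancel_right]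
        · refine ⟨⟨inv_mem hg, inv_ne_one.2 hx1⟩, ?_⟩
          calc c * (g⁻¹ * n) * x⁻¹ * (c * (g⁻¹ * n))⁻¹ = c * g⁻¹ * (n * x⁻¹ * n⁻¹) * g * c⁻¹ := by
                group
            _ = c * z * c⁻¹ := by rw [hnx, hzx]; group
            _ = z := by rw [Subgroup.mem_centralizer_singleton_iff.1 hc, mul_inv_cancel_right]
    rw [key, Finset.card_union_of_disjoint, Finset.card_image_of_injective _ fun a b e => by simpa using e,
      Finset.card_image_of_injective _ fun a b e => by simpa using e, two_mul,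
      Nat.card_eq_fintype_card, Fintype.card_subtype]
    refine Finset.disjoint_left.2 fun q ha hb => ?_
    obtain ⟨a, -, rfl⟩ := Finset.mem_image.1 ha
    obtain ⟨b, -, hb⟩ := Finset.mem_image.1 hb
    exact h.ne_inv hg hx1 (congrArg Prod.fst hb).symm
  rw [h1]
  have h4 : ∀ z ∈ E, F z = ∑ q ∈ (S ×ˢ Finset.univ).filter (fun q : G × G => q.2 * q.1 * q.2⁻¹ = z),
      F q.1 / (2 * (Nat.card (Subgroup.centralizer ({q.1} : Set G)) : ℂ)) := by
    intro z hz
    rw [Finset.sum_congr rfl (g := fun _ => F z / (2 * (Nat.card (Subgroup.centralizer ({z} : Set G)) : ℂ)))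
      fun q hq => ?_, Finset.sum_const, h3 z hz, nsmul_eq_mul]
    · have : (Nat.card (Subgroup.centralizer ({z} : Set G)) : ℂ) ≠ 0 :=
        Nat.cast_ne_zero.2 Nat.card_pos.ne'
      push_cast
      field_simp
    · obtain ⟨-, rfl⟩ := Finset.mem_filter.1 hq
      rw [hF]
      congr 3
      exact (Nat.card_congr (Subgroup.equivMapOfInjective _ (MulAut.conj q.2).toMonoidHom
        (MulAut.conj q.2).injective).toEquiv).trans (by rw [centralizer_conj])
  rw [Finset.sum_congr rfl h4, Finset.sum_fiberwise_of_maps_to fun q hq =>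
    h2 _ (Finset.mem_product.1 hq).1 _ (isConj_iff.2 ⟨q.2, rfl⟩), Finset.sum_product]
  refine Finset.sum_congr rfl fun x _ => ?_
  simp only [Finset.sum_const, Finset.card_univ, nsmul_eq_mul, Nat.card_eq_fintype_card, F]
  ring
where
  centralizer_conj {c y : G} :
      (Subgroup.centralizer ({y} : Set G)).map (MulAut.conj c).toMonoidHom =
        Subgroup.centralizer ({c * y * c⁻¹} : Set G) := by
    ext a
    rw [Subgroup.mem_map_equiv, Subgroup.mem_centralizer_singleton_iff,
      Subgroup.mem_centralizer_singleton_iff, MulAut.conj_symm_apply]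
    constructor <;> intro e
    · calc a * (c * y * c⁻¹) = c * (c⁻¹ * a * c * y) * c⁻¹ := by group
        _ = c * y * c⁻¹ * a := by rw [e]; group
    · calc c⁻¹ * a * c * y = c⁻¹ * (a * (c * y * c⁻¹)) * c := by group
        _ = y * (c⁻¹ * a * c) := by rw [e]; group

end Cfsg.Agent.SmithTyrer

namespace Cfsg.Agent.SmithTyrer

open Cfsg

universe u

variable {G : Type u} [Group G] [Fintype G] {p : ℕ} [hp : Fact p.Prime] {P : Sylow p G} {n : G}
  (h : Inverted P n)

include h

open scoped Classical in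
/-- A function of the `p`-part summed over the elements of non-trivial `p`-part. -/
theorem sum_singular_pp (φ : G → ℂ) (hφ : IsClassFunction G φ) :
    ∑ g ∈ Finset.univ.filter (fun g : G => pp p g ≠ 1), φ (pp p g) =
      (Nat.card G : ℂ) / (2 * (Nat.card (P : Subgroup G) : ℂ)) *
        ∑ x ∈ Finset.univ.filter (fun x : G => x ∈ (P : Subgroup G) ∧ x ≠ 1), φ x := by
  rw [sum_singular h (fun g => φ (pp p g)) (fun g c => by show φ (pp p (c * g * c⁻¹)) = φ (pp p g); rw [pp_conj, hφ]), Finset.mul_sum]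
  refine Finset.sum_congr rfl fun x hx => ?_
  obtain ⟨-, hxP, hx1⟩ := Finset.mem_filter.1 hx
  rw [Finset.sum_congr rfl (g := fun _ => φ x) fun s hs => by
    rw [pp_mul (pElt_of_mem hxP) (mem_regSet.1 hs).1.symm (mem_regSet.1 hs).2],
    Finset.sum_const, nsmul_eq_mul, ← h.card_regSet hxP hx1]
  have h1 : ((regSet p x).card : ℂ) ≠ 0 := by
    refine Nat.cast_ne_zero.2 (Finset.card_ne_zero.2 ⟨1, mem_regSet.2 ⟨Commute.one_left x, ?_⟩⟩)
    rw [orderOf_one]; exact hp.out.not_dvd_one
  have h2 : (Nat.card (P : Subgroup G) : ℂ) ≠ 0 := Nat.cast_ne_zero.2 Nat.card_pos.ne'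
  push_cast
  field_simp

open scoped Classical in
/-- The number of elements with trivial `p`-part. -/
theorem card_regular :
    ((Finset.univ.filter fun g : G => pp p g = 1).card : ℂ) =
      (Nat.card G : ℂ) * ((Nat.card (P : Subgroup G) : ℂ) + 1) /
        (2 * (Nat.card (P : Subgroup G) : ℂ)) := by
  have e := sum_singular_pp h (fun _ => 1) fun _ _ => rfl
  simp only [Finset.sum_const, nsmul_eq_mul, mul_one] at e
  have h3 : (Finset.univ.filter fun x : G => x ∈ (P : Subgroup G) ∧ x ≠ 1).card + 1 =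
      Nat.card (P : Subgroup G) := by
    rw [Nat.card_eq_fintype_card, Fintype.card_subtype, ← Finset.card_erase_add_one
      (s := Finset.univ.filter fun x : G => x ∈ (P : Subgroup G)) (a := 1) (by simp)]
    congr 2
    ext x
    simp [and_comm]
  have h4 := Finset.card_filter_add_card_filter_not (s := (Finset.univ : Finset G)) (fun g => pp p g = 1)
  rw [Finset.card_univ, ← Nat.card_eq_fintype_card] at h4
  have h5 : ((Finset.univ.filter fun g : G => pp p g = 1).card : ℂ) +
      ((Finset.univ.filter fun g : G => pp p g ≠ 1).card : ℂ) = (Nat.card G : ℂ) := by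
    exact_mod_cast h4
  have h6 : ((Finset.univ.filter fun x : G => x ∈ (P : Subgroup G) ∧ x ≠ 1).card : ℂ) =
      (Nat.card (P : Subgroup G) : ℂ) - 1 := by
    rw [eq_sub_iff_add_eq]; exact_mod_cast h3
  rw [h6] at e
  have h2 : (Nat.card (P : Subgroup G) : ℂ) ≠ 0 := Nat.cast_ne_zero.2 Nat.card_pos.ne'
  rw [eq_sub_of_add_eq h5, e]
  field_simp
  ring

end Cfsg.Agent.SmithTyrer
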